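import Groth.Agent.Reductive.CentralNhd.Field
import Groth.Agent.AlgGrp1.Geom

/-!
A homomorphism from a group of multiplicative type to a group with connected fibres which is central
at a point is central near that point.
-/

set_option autoImplicit false
set_option backward.isDefEq.respectTransparency false
universe u

open CategoryTheory MonoidalCategory CartesianMonoidalCategory MonObj GrpObj AlgebraicGeometry
open Groth.Reductive.FreeDiag

noncomputable section

namespace Groth.Reductive.CentralNhd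

attribute [local instance] algΓ'

variable {S : Scheme.{u}} {H G : Over S} [GrpObj H] [GrpObj G] (u : H ⟶ G) [IsMonHom u]

omit [GrpObj H] in
set_option synthInstance.maxHeartbeats 200000 in
/-- The unit section of a base change. -/
lemma one_bc_left {T : Scheme.{u}} (g : T ⟶ S) :
    η[Red.bc g G].left ≫ Limits.pullback.fst G.hom g = g ≫ η[G].left := by
  have h1 : η[Red.bc g G] = (1 : 𝟙_ (Over T) ⟶ Red.bc g G) := MonObj.one_eq_one _
  have h2 := congrArg (fun f ↦ f.left) (map_one (bcPointEquiv g G (𝟙_ (Over T))))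
  rw [h1]
  refine Eq.trans ?_ (h2.trans ?_)
  · show _ = (qPt g (1 : 𝟙_ (Over T) ⟶ Red.bc g G)).left
    simp [qPt, Over.mapPullbackAdj]
    try rfl
  · rw [Hom.one_def, Over.comp_left]
    show (𝟙 T ≫ g) ≫ _ = _
    rw [Category.id_comp]

/-- An affine chart of a base change containing the unit section. -/
lemma exists_affine_chart {T : Scheme.{u}} [IsAffine T] (g : T ⟶ S)
    {S₀ : S.Opens} (hS₀ : IsAffineOpen S₀) {W : G.left.Opens} (hW : IsAffineOpen W)
    (hWS : W ≤ G.hom ⁻¹ᵁ S₀) (hg : ∀ t, η[G].left (g t) ∈ W) :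
    ∃ (WT : Over T) (w : WT ⟶ Red.bc g G) (eW : 𝟙_ (Over T) ⟶ WT), IsAffine WT.left ∧
      IsOpenImmersion w.left ∧ eW ≫ w = η[Red.bc g G] := by
  haveI : IsAffine (S₀ : Scheme.{u}) := hS₀
  haveI : IsAffine (W : Scheme.{u}) := hW
  have hgS : Set.range g ⊆ Set.range S₀.ι := by
    rintro _ ⟨t, rfl⟩
    rw [Scheme.Opens.range_ι]
    have h := hWS (hg t)
    change G.hom (η[G].left (g t)) ∈ S₀ at h
    rw [← Scheme.Hom.comp_apply, Over.w η[G]] at h
    exact h
  let g₀ := IsOpenImmersion.lift S₀.ι g hgS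
  have hg₀ : g₀ ≫ S₀.ι = g := IsOpenImmersion.lift_fac _ _ _
  have hwS : Set.range (W.ι ≫ G.hom) ⊆ Set.range S₀.ι := by
    rintro _ ⟨x, rfl⟩
    rw [Scheme.Opens.range_ι]
    exact hWS x.2
  let w₀ := IsOpenImmersion.lift S₀.ι (W.ι ≫ G.hom) hwS
  have hw₀ : w₀ ≫ S₀.ι = W.ι ≫ G.hom := IsOpenImmersion.lift_fac _ _ _
  let V := Limits.pullback w₀ g₀
  let a := Limits.pullback.fst w₀ g₀
  let b := Limits.pullback.snd w₀ g₀
  have hpb : IsPullback a b (W.ι ≫ G.hom) g := by
    rw [← hw₀, ← hg₀]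
    exact IsPullback.of_isLimit (Limits.pullbackIsPullbackOfCompMono w₀ g₀ S₀.ι)
  let n : V ⟶ Limits.pullback G.hom g :=
    Limits.pullback.lift (a ≫ W.ι) b ((Category.assoc _ _ _).trans hpb.w)
  have hn : IsPullback a n W.ι (Limits.pullback.fst G.hom g) := by
    refine IsPullback.of_bot ?_ (Limits.pullback.lift_fst _ _ _).symm
      (IsPullback.of_hasPullback G.hom g)
    rw [Limits.pullback.lift_snd]
    exact hpb
  haveI : IsOpenImmersion n := MorphismProperty.of_isPullback hn inferInstance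
  let WT : Over T := Over.mk b
  let w : WT ⟶ Red.bc g G := Over.homMk n (Limits.pullback.lift_snd _ _ _)
  haveI : IsOpenImmersion w.left := ‹IsOpenImmersion n›
  have hr : Set.range η[Red.bc g G].left ⊆ Set.range n := by
    rintro _ ⟨t, rfl⟩
    have h1 : Limits.pullback.fst G.hom g (η[Red.bc g G].left t) = η[G].left (g t) := by
      exact congrArg (fun k : T ⟶ G.left ↦ k.base t) (one_bc_left g)
    obtain ⟨z, -, hz⟩ := Scheme.exists_preimage_of_isPullback hn ⟨η[G].left (g t), hg t⟩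
      (η[Red.bc g G].left t) h1.symm
    exact ⟨z, hz⟩
  let eW : 𝟙_ (Over T) ⟶ WT := Over.homMk (IsOpenImmersion.lift n η[Red.bc g G].left hr) (by
    show _ ≫ b = _
    rw [← show n ≫ Limits.pullback.snd G.hom g = b from Limits.pullback.lift_snd _ _ _,
      IsOpenImmersion.lift_fac_assoc]
    exact Over.w η[Red.bc g G])
  exact ⟨WT, w, eW, inferInstanceAs (IsAffine V), ‹_›,
    Over.OverMorphism.ext (IsOpenImmersion.lift_fac _ _ _)⟩

/-- The chart is of finite presentation if the group is. -/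
lemma exists_chart {T : Scheme.{u}} [IsAffine T] (g : T ⟶ S) [LocallyOfFinitePresentation G.hom]
    {S₀ : S.Opens} (hS₀ : IsAffineOpen S₀) {W : G.left.Opens} (hW : IsAffineOpen W)
    (hWS : W ≤ G.hom ⁻¹ᵁ S₀) (hg : ∀ t, η[G].left (g t) ∈ W) :
    ∃ (WT : Over T) (w : WT ⟶ Red.bc g G) (eW : 𝟙_ (Over T) ⟶ WT), IsAffine WT.left ∧
      IsOpenImmersion w.left ∧ LocallyOfFinitePresentation WT.hom ∧ eW ≫ w = η[Red.bc g G] := by
  obtain ⟨WT, w, eW, hWT, hw, heW⟩ := exists_affine_chart g hS₀ hW hWS hg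
  haveI : LocallyOfFinitePresentation (Limits.pullback.snd G.hom g) := inferInstance
  haveI : LocallyOfFinitePresentation w.left := locallyOfFinitePresentation_of_isOpenImmersion _
  refine ⟨WT, w, eW, hWT, hw, ?_, heW⟩
  rw [← Over.w w]
  exact inferInstanceAs (LocallyOfFinitePresentation (w.left ≫ Limits.pullback.snd G.hom g))

omit [GrpObj H] [IsMonHom u] in
/-- Connectedness of fibres is inherited by field-valued points. -/
lemma connectedSpace_fibre [LocallyOfFiniteType G.hom]
    (hconn : ∀ t : S, ConnectedSpace ↥(Limits.pullback G.hom (S.fromSpecResidueField t)))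
    (K : Type u) [Field K] (q : Spec (CommRingCat.of K) ⟶ S) :
    ConnectedSpace ↥(Limits.pullback G.hom q) := by
  set t := q.base (IsLocalRing.closedPoint K)
  haveI := hconn t
  let jK : Limits.pullback G.hom (S.fromSpecResidueField t) ⟶
      Spec (CommRingCat.of (S.residueField t)) :=
    Limits.pullback.snd G.hom (S.fromSpecResidueField t)
  let σ : Spec (CommRingCat.of (S.residueField t)) ⟶
      Limits.pullback G.hom (S.fromSpecResidueField t) :=
    Limits.pullback.lift (S.fromSpecResidueField t ≫ η[G].left) (𝟙 _)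
      ((Category.assoc _ _ _).trans ((congrArg _ (Over.w η[G])).trans
        ((Category.comp_id _).trans (Category.id_comp _).symm)))
  haveI : LocallyOfFiniteType jK := MorphismProperty.pullback_snd _ _ inferInstance
  haveI : GeometricallyConnected jK :=
    Groth.AlgGrp1.geometricallyConnected_of_point jK σ (Limits.pullback.lift_snd _ _ _)
  let r : Spec (CommRingCat.of K) ⟶ Spec (S.residueField t) :=
    Spec.map (S.descResidueField (Scheme.stalkClosedPointTo q))
  have hr : r ≫ S.fromSpecResidueField t = q :=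
    Scheme.descResidueField_stalkClosedPointTo_fromSpecResidueField K S q
  have hpb : IsPullback (Limits.pullback.fst jK r ≫
      Limits.pullback.fst G.hom (S.fromSpecResidueField t)) (Limits.pullback.snd jK r) G.hom q := by
    rw [← hr]
    exact (IsPullback.of_hasPullback jK r).paste_horiz (IsPullback.of_hasPullback _ _)
  haveI : GeometricallyConnected (Limits.pullback.snd jK r) := inferInstance
  haveI : ConnectedSpace ↥(Limits.pullback jK r) :=
    GeometricallyConnected.connectedSpace_of_subsingleton (f := Limits.pullback.snd jK r)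
  exact hpb.isoPullback.hom.homeomorph.surjective.connectedSpace hpb.isoPullback.hom.continuous

/-- On a trivialising chart, centrality at all points gives centrality. -/
theorem trivOn_chart [LocallyOfFiniteType G.hom] {T : Scheme.{u}} [IsAffine T] (g : T ⟶ S)
    {M : Type} [AddCommGroup M] (i : Red.DS T M ≅ Red.bc g H) [IsMonHom i.hom]
    (h0 : ∀ t : T, TrivOn (commMap u) (Over.mk (S.fromSpecResidueField (g t)))) :
    TrivOn (commMap u) (Over.mk g) := by
  let v : Red.DS T M ⟶ Red.bc g G := i.hom ≫ (Over.pullback g).map u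
  haveI : LocallyOfFiniteType (Red.bc g G).hom := MorphismProperty.pullback_snd _ _ ‹_›
  have hact := eq_snd_of_diag_fibres (conjMor v)
    (fun Z h h' y ↦ act_assoc (conjAct v) h h' y) (fun Z y ↦ act_one' (conjAct v) y) ‹_› ?_
  · have h1 : TrivOn (commMap v) (Over.mk (𝟙 T)) := by
      rw [trivOn_conj_iff]
      intro W _ h y
      rw [hact, lift_snd]
    exact ((trivOn_bc u g i _).1 h1).of_hom (Over.homMk (𝟙 _) (by simp))
  · intro K _ x Z l hl h y
    have h1 : TrivOn (commMap v) (Over.mk x) := by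
      refine (trivOn_bc u g i _).2 ?_
      have h2 : TrivOn (commMap u) (Over.mk (x ≫ g)) := by
        rw [trivOn_fieldPoint_iff']
        exact h0 _
      exact h2.of_hom (Over.homMk (𝟙 _) (by simp))
    exact (trivOn_conj_iff v).1 h1 Z (Over.homMk l hl) h y

/-- The preimage of the central locus in a trivialising cover is open. -/
lemma isOpen_preimage_central [LocallyOfFinitePresentation G.hom]
    (hconn : ∀ t : S, ConnectedSpace ↥(Limits.pullback G.hom (S.fromSpecResidueField t)))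
    {S' : Scheme.{u}} (f : S' ⟶ S)
    (htriv : ∀ x : S', ∃ T : S'.Opens, x ∈ T ∧ IsAffineOpen T ∧ ∀ T' ≤ T,
      ∃ (M : Type) (_ : AddCommGroup M)
        (i : Red.DS (T' : Scheme.{u}) M ≅ Red.bc (T'.ι ≫ f) H), IsMonHom i.hom) :
    IsOpen (f.base ⁻¹' {t | TrivOn (commMap u) (Over.mk (S.fromSpecResidueField t))}) := by
  rw [isOpen_iff_forall_mem_open]
  intro x hx
  obtain ⟨T₁, hxT₁, -, hT₁⟩ := htriv x
  obtain ⟨S₀, hS₀, hxS, -⟩ := exists_isAffineOpen_mem_and_subset (x := f x) (U := (⊤ : S.Opens))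
    trivial
  obtain ⟨W, hW, hxW, hWS⟩ := exists_isAffineOpen_mem_and_subset
    (x := η[G].left (f x)) (U := G.hom ⁻¹ᵁ S₀) (by
      show G.hom (η[G].left (f x)) ∈ S₀
      rw [← Scheme.Hom.comp_apply, Over.w η[G]]
      exact hxS)
  obtain ⟨T, hT, hxT, hTle⟩ := exists_isAffineOpen_mem_and_subset
    (x := x) (U := T₁ ⊓ f ⁻¹ᵁ (η[G].left ⁻¹ᵁ W)) ⟨hxT₁, hxW⟩
  haveI : IsAffine (T : Scheme.{u}) := hT
  obtain ⟨M, _, i, hi⟩ := hT₁ T (le_trans hTle inf_le_left)
  haveI := hi
  let g := T.ι ≫ f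
  obtain ⟨WT, w, eW, hWTa, hw, hWTp, heW⟩ := exists_chart (G := G) g hS₀ hW hWS fun t ↦ by
    rw [Scheme.Hom.comp_apply]
    exact (hTle t.2).2
  let v : Red.DS (T : Scheme.{u}) M ⟶ Red.bc g G := i.hom ≫ (Over.pullback g).map u
  let t : (T : Scheme.{u}) := ⟨x, hxT⟩
  have ht0 : TrivOn (commMap v) (Over.mk ((T : Scheme.{u}).fromSpecResidueField t)) := by
    refine (trivOn_bc u g i _).2 ?_
    have h2 : TrivOn (commMap u) (Over.mk ((T : Scheme.{u}).fromSpecResidueField t ≫ g)) := by
      refine (trivOn_fieldPoint_iff' u _ _).2 ?_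
      have e : ((T : Scheme.{u}).fromSpecResidueField t ≫ g).base (IsLocalRing.closedPoint _) = f x :=
        congrArg g.base (Scheme.fromSpecResidueField_apply t _)
      exact (congrArg (fun a ↦ TrivOn (commMap u) (Over.mk (S.fromSpecResidueField a))) e).mpr hx
    exact h2.of_hom (Over.homMk (𝟙 _) (by simp))
  obtain ⟨s, hts, hkill⟩ := exists_kills_nbhd w eW v heW t ht0
  refine ⟨T.ι '' ((T : Scheme.{u}).basicOpen s), ?_,
    T.ι.isOpenEmbedding.isOpenMap _ ((T : Scheme.{u}).basicOpen s).isOpen, ⟨t, hts, rfl⟩⟩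
  rintro _ ⟨t', ht', rfl⟩
  show f (T.ι t') ∈ {t | TrivOn (commMap u) (Over.mk (S.fromSpecResidueField t))}
  let K := AlgebraicClosure ((T : Scheme.{u}).residueField t')
  let p : Spec (CommRingCat.of K) ⟶ (T : Scheme.{u}) :=
    Spec.map (CommRingCat.ofHom (algebraMap ((T : Scheme.{u}).residueField t') K)) ≫ (T : Scheme.{u}).fromSpecResidueField t'
  have hp : p.base (IsLocalRing.closedPoint K) = t' := by
    rw [Scheme.Hom.comp_apply]
    exact Scheme.fromSpecResidueField_apply t' _
  have hsp : IsUnit (p.appTop.hom s) := by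
    refine (Spec (CommRingCat.of K)).toRingedSpace.isUnit_of_isUnit_germ ⊤ _ fun z _ ↦ ?_
    refine (Scheme.mem_basicOpen_top _ _ z).mp ?_
    show z ∈ (Spec (CommRingCat.of K)).basicOpen (p.appTop s)
    rw [← Scheme.preimage_basicOpen_top]
    show p.base z ∈ ((T : Scheme.{u}).basicOpen s : Set _)
    rw [show z = IsLocalRing.closedPoint K from Subsingleton.elim _ _, hp]
    exact ht'
  haveI : LocallyOfFiniteType (Red.bc g G).hom :=
    MorphismProperty.pullback_snd _ _ inferInstance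
  haveI : ConnectedSpace ↥(Limits.pullback (Red.bc g G).hom p) := by
    haveI := connectedSpace_fibre hconn K (p ≫ g)
    let e := Limits.pullbackLeftPullbackSndIso G.hom g p
    exact e.inv.homeomorph.surjective.connectedSpace e.inv.continuous
  have h1 := trivOn_point w eW v s hkill K p hsp
  have h2 : TrivOn (commMap u) (Over.mk (p ≫ g)) :=
    ((trivOn_bc u g i _).1 h1).of_hom (Over.homMk (𝟙 _) (by simp))
  rw [trivOn_fieldPoint_iff', Scheme.Hom.comp_apply, hp] at h2
  exact h2

/-- **Centrality spreads from a point**: a homomorphism from a group of multiplicative type to a group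
with connected fibres is central near every point at which it is central. -/
theorem exists_open_central [LocallyOfFinitePresentation G.hom] (hH : SGA3x.IsMultTypeFT H)
    (hconn : ∀ t : S, ConnectedSpace ↥(Limits.pullback G.hom (S.fromSpecResidueField t))) :
    ∃ U : S.Opens, (∀ t, t ∈ U ↔ TrivOn (commMap u) (Over.mk (S.fromSpecResidueField t))) ∧
      TrivOn (commMap u) (Over.mk U.ι) := by
  obtain ⟨S', f, hflat, hsurj, hqc, hloc⟩ := hH
  haveI := hflat
  haveI := hsurj
  let A : Set S := {t | TrivOn (commMap u) (Over.mk (S.fromSpecResidueField t))}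
  have htriv : ∀ x : S', ∃ T : S'.Opens, x ∈ T ∧ IsAffineOpen T ∧ ∀ T' ≤ T,
      ∃ (M : Type) (_ : AddCommGroup M)
        (i : Red.DS (T' : Scheme.{u}) M ≅ Red.bc (T'.ι ≫ f) H), IsMonHom i.hom := by
    intro x
    obtain ⟨U', hxU, M, instM, -, ⟨e⟩⟩ := hloc x
    obtain ⟨T, hT, hxT, hTU⟩ := exists_isAffineOpen_mem_and_subset hxU
    refine ⟨T, hxT, hT, fun T' hT' ↦ ?_⟩
    let e' : Red.DS (U' : Scheme.{u}) M ≅ Red.bc (U'.ι ≫ f) H :=
      ⟨e.inv.hom.hom, e.hom.hom.hom, congrArg (fun z ↦ z.hom.hom) e.inv_hom_id,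
        congrArg (fun z ↦ z.hom.hom) e.hom_inv_id⟩
    haveI : IsMonHom e'.hom := inferInstanceAs (IsMonHom e.inv.hom.hom)
    obtain ⟨i, hi⟩ := exists_trivialisation_comp H (S'.homOfLE (hT'.trans hTU)) (U'.ι ≫ f) e'
    revert i hi
    rw [Scheme.homOfLE_ι_assoc]
    intro i hi
    exact ⟨M, instM, i, hi⟩
  -- the preimage is open
  have hopen : IsOpen (f.base ⁻¹' A) := isOpen_preimage_central u hconn f htriv
  have hA : IsOpen A := by
    have hres : ∀ Y : S.affineOpens,
        IsOpen ((Subtype.val : {y // y ∈ (Y : S.Opens)} → S) ⁻¹' A) := by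
      intro Y
      obtain ⟨W, hWc, hW⟩ := hqc Y Y.2
      haveI : IsAffine ((Y : S.Opens) : Scheme.{u}) := Y.2
      have hle : Set.range (W.ι ≫ f) ⊆ Set.range (Y : S.Opens).ι := by
        rintro _ ⟨w, rfl⟩
        rw [Scheme.Opens.range_ι]
        exact hW.subset ⟨w.1, w.2, rfl⟩
      let g := IsOpenImmersion.lift (Y : S.Opens).ι (W.ι ≫ f) hle
      have hg : g ≫ (Y : S.Opens).ι = W.ι ≫ f := IsOpenImmersion.lift_fac _ _ _
      have : Surjective g := by
        refine ⟨fun v ↦ ?_⟩
        obtain ⟨w, hw, e⟩ := hW.superset v.2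
        refine ⟨⟨w, hw⟩, (Y : S.Opens).ι.isOpenEmbedding.injective ?_⟩
        rw [← Scheme.Hom.comp_apply, hg]
        exact e
      have : Flat g := by
        haveI : Flat (g ≫ (Y : S.Opens).ι) := by rw [hg]; infer_instance
        exact MorphismProperty.of_postcomp (W := @Flat) (W' := @IsOpenImmersion) g (Y : S.Opens).ι
          inferInstance inferInstance
      haveI : CompactSpace (W : Scheme.{u}) := isCompact_iff_compactSpace.mp hWc
      haveI : QuasiCompact g := inferInstance
      have hq := Flat.isQuotientMap_of_surjective g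
      have hpre : g.base ⁻¹' ((Subtype.val : {y // y ∈ (Y : S.Opens)} → S) ⁻¹' A) =
          (Subtype.val : {y // y ∈ W} → S') ⁻¹' (f.base ⁻¹' A) := by
        ext w
        show ((Y : S.Opens).ι (g w)) ∈ A ↔ f (W.ι w) ∈ A
        rw [← Scheme.Hom.comp_apply, hg, Scheme.Hom.comp_apply]
      refine hq.isOpen_preimage.mp ?_
      exact (congrArg IsOpen hpre).mpr (hopen.preimage continuous_subtype_val)
    have hcov : TopologicalSpace.IsOpenCover fun Y : S.affineOpens ↦ (Y : S.Opens) :=
      .mk (iSup_affineOpens_eq_top S)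
    exact hcov.isOpen_iff_coe_preimage.mpr hres
  let U : S.Opens := ⟨A, hA⟩
  refine ⟨U, fun t ↦ Iff.rfl, ?_⟩
  let r : (f ⁻¹ᵁ U : Scheme.{u}) ⟶ (U : Scheme.{u}) := f ∣_ U
  haveI : Flat r := IsZariskiLocalAtTarget.restrict hflat U
  haveI : Surjective r := IsZariskiLocalAtTarget.restrict hsurj U
  let p : Over.mk ((f ⁻¹ᵁ U).ι ≫ f) ⟶ Over.mk U.ι := Over.homMk r (morphismRestrict_ι f U)
  haveI : Flat p.left := inferInstanceAs (Flat r)
  haveI : Surjective p.left := inferInstanceAs (Surjective r)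
  refine TrivOn.descend p ?_
  choose T₁ hxT₁ hT₁a hT₁ using htriv
  choose T hT hxT hTle using fun x : (f ⁻¹ᵁ U : Scheme.{u}) ↦
    exists_isAffineOpen_mem_and_subset (x := x.1) (U := T₁ x.1 ⊓ f ⁻¹ᵁ U) ⟨hxT₁ x.1, x.2⟩
  refine TrivOn.of_openCover (fun x ↦ (f ⁻¹ᵁ U).ι ⁻¹ᵁ T x) (fun x ↦ hxT x) fun x ↦ ?_
  haveI : IsAffine (T x : Scheme.{u}) := hT x
  obtain ⟨M, _, i, hi⟩ := hT₁ x.1 (T x) (le_trans (hTle x) inf_le_left)
  haveI := hi
  have h1 := trivOn_chart u ((T x).ι ≫ f) i fun t ↦ by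
    rw [Scheme.Hom.comp_apply]
    exact (hTle x t.2).2
  let m := ((f ⁻¹ᵁ U).ι ⁻¹ᵁ T x).ι ≫ (f ⁻¹ᵁ U).ι
  have hle : Set.range m ⊆ Set.range (T x).ι := by
    rintro _ ⟨w, rfl⟩
    rw [Scheme.Opens.range_ι]
    exact w.2
  refine h1.of_hom (Over.homMk (IsOpenImmersion.lift (T x).ι m hle) ?_)
  show _ ≫ (T x).ι ≫ f = ((f ⁻¹ᵁ U).ι ⁻¹ᵁ T x).ι ≫ (f ⁻¹ᵁ U).ι ≫ f
  rw [IsOpenImmersion.lift_fac_assoc, Category.assoc]

end Groth.Reductive.CentralNhd
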