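import Groth.Agent.Reductive.TrivialLocus

/-!
Centrality of a homomorphism as triviality of its commutator map, and the conjugation action.
-/

set_option autoImplicit false
universe u

open CategoryTheory MonoidalCategory CartesianMonoidalCategory MonObj GrpObj AlgebraicGeometry
open Groth.Reductive.FreeDiag

noncomputable section

namespace Groth.Reductive.CentralNhd

variable {S : Scheme.{u}} {H G : Over S} [GrpObj G] (u : H ⟶ G)

/-- The commutator of a point of the source of `u` with a point of the target. -/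
def commMap : H ⊗ G ⟶ G := (fst H G ≫ u) * snd H G * (fst H G ≫ u)⁻¹ * (snd H G)⁻¹

lemma lift_commMap {Z : Over S} (h : Z ⟶ H) (g : Z ⟶ G) :
    lift h g ≫ commMap u = (h ≫ u) * g * (h ≫ u)⁻¹ * g⁻¹ := by
  simp only [commMap, MonObj.comp_mul, GrpObj.comp_inv, lift_fst_assoc, lift_snd]

/-- Conjugation through `u`. -/
def conjMor : H ⊗ G ⟶ G := (fst H G ≫ u) * snd H G * (fst H G ≫ u)⁻¹

lemma lift_conjMor {Z : Over S} (h : Z ⟶ H) (g : Z ⟶ G) :
    lift h g ≫ conjMor u = (h ≫ u) * g * (h ≫ u)⁻¹ := by
  simp only [conjMor, MonObj.comp_mul, GrpObj.comp_inv, lift_fst_assoc, lift_snd]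

theorem trivOn_commMap_iff {Z : Over S} : TrivOn (commMap u) Z ↔
    ∀ (W : Over S), (W ⟶ Z) → ∀ (g : W ⟶ G) (h : W ⟶ H), g * (h ≫ u) = (h ≫ u) * g := by
  constructor
  · intro H0 W w g h
    have e := H0 W w (lift h g)
    rw [lift_commMap, mul_inv_eq_one, mul_inv_eq_iff_eq_mul] at e
    exact e.symm
  · intro H0 W w x
    rw [← lift_comp_fst_snd x, lift_commMap, mul_inv_eq_one, mul_inv_eq_iff_eq_mul]
    exact (H0 W w _ _).symm

theorem trivOn_conj_iff {Z : Over S} : TrivOn (commMap u) Z ↔
    ∀ (W : Over S), (W ⟶ Z) → ∀ (h : W ⟶ H) (g : W ⟶ G), lift h g ≫ conjMor u = g := by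
  rw [trivOn_commMap_iff]
  simp only [lift_conjMor, mul_inv_eq_iff_eq_mul]
  exact ⟨fun h W w a b ↦ (h W w b a).symm, fun h W w a b ↦ (h W w b a).symm⟩

/-- Centrality at a field-valued point only depends on its image. -/
theorem trivOn_fieldPoint_iff' (K : Type u) [Field K] (p : Spec (CommRingCat.of K) ⟶ S) :
    TrivOn (commMap u) (Over.mk p) ↔
      TrivOn (commMap u) (Over.mk (S.fromSpecResidueField (p.base (IsLocalRing.closedPoint K)))) := by
  set s := p.base (IsLocalRing.closedPoint K)
  let d : Spec (CommRingCat.of K) ⟶ Spec (S.residueField s) :=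
    Spec.map (S.descResidueField (Scheme.stalkClosedPointTo p))
  have hd : d ≫ S.fromSpecResidueField s = p :=
    Scheme.descResidueField_stalkClosedPointTo_fromSpecResidueField K S p
  let q : Over.mk p ⟶ Over.mk (S.fromSpecResidueField s) := Over.homMk d hd
  refine ⟨fun h ↦ ?_, fun h ↦ h.of_hom q⟩
  haveI : Flat q.left := by
    show Flat (Spec.map _)
    rw [Flat.SpecMap_iff]
    let φ := (S.descResidueField (Scheme.stalkClosedPointTo p)).hom
    show φ.Flat
    letI := φ.toAlgebra
    exact inferInstanceAs (Module.Flat (S.residueField s) K)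
  haveI : Surjective q.left := ⟨fun y ↦ ⟨IsLocalRing.closedPoint K,
    Subsingleton.elim (α := (Spec (S.residueField s) : Scheme.{u})) _ _⟩⟩
  exact TrivOn.descend q h

variable [GrpObj H] [IsMonHom u]

/-- The conjugation action through a homomorphism. -/
def conjAct : AlgGrp.Action H G where
  act := conjMor u
  one_act := by
    have e : η[H] ▷ G = lift (1 : 𝟙_ _ ⊗ G ⟶ H) (snd (𝟙_ (Over S)) G) := by
      apply CartesianMonoidalCategory.hom_ext
      · rw [lift_fst, whiskerRight_fst, Hom.one_def, toUnit_unique (fst (𝟙_ (Over S)) G) (toUnit _)]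
      · rw [lift_snd, whiskerRight_snd]
    rw [e, lift_conjMor, MonObj.one_comp, _root_.one_mul, inv_one, _root_.mul_one, leftUnitor_hom]
  mul_act := by
    have e1 : μ[H] ▷ G = lift ((fst (H ⊗ H) G ≫ fst H H) * (fst (H ⊗ H) G ≫ snd H H))
        (snd (H ⊗ H) G) := by
      apply CartesianMonoidalCategory.hom_ext
      · rw [lift_fst, ← MonObj.comp_mul, Hom.mul_def, lift_fst_snd, Category.id_comp]
        simp
      · simp
    have e2 : (α_ H H G).hom ≫ (H ◁ conjMor u) =
        lift (fst (H ⊗ H) G ≫ fst H H) (lift (fst (H ⊗ H) G ≫ snd H H) (snd (H ⊗ H) G) ≫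
          conjMor u) := by
      apply CartesianMonoidalCategory.hom_ext
      · simp
      · rw [lift_snd, Category.assoc, whiskerLeft_snd, ← Category.assoc]
        congr 1
        apply CartesianMonoidalCategory.hom_ext <;> simp
    rw [e1, ← Category.assoc (α_ H H G).hom, e2, lift_conjMor, lift_conjMor, lift_conjMor,
      MonObj.mul_comp, _root_.mul_inv_rev]
    simp only [_root_.mul_assoc]

omit [IsMonHom u] [GrpObj H] in
/-- Centrality over a scheme over `T` does not depend on where it is computed. -/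
theorem trivOn_bc {T : Scheme.{u}} (g : T ⟶ S) {H' : Over T} (i : H' ≅ Red.bc g H) (Z : Over T) :
    TrivOn (commMap (i.hom ≫ (Over.pullback g).map u : H' ⟶ Red.bc g G)) Z ↔
      TrivOn (commMap u) ((Over.map g).obj Z) := by
  rw [trivOn_commMap_iff, trivOn_commMap_iff]
  have key : ∀ (W : Over T) (a : W ⟶ Red.bc g G) (b : W ⟶ Red.bc g H),
      a * ((b ≫ i.inv) ≫ i.hom ≫ (Over.pullback g).map u) =
        ((b ≫ i.inv) ≫ i.hom ≫ (Over.pullback g).map u) * a ↔
      qPt g a * (qPt g b ≫ u) = (qPt g b ≫ u) * qPt g a := by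
    intro W a b
    rw [Category.assoc, Iso.inv_hom_id_assoc, ← qPt_map, ← (bcPointEquiv g G W).injective.eq_iff,
      map_mul, map_mul]
    rfl
  constructor
  · intro H0 W w a b
    let W' : Over T := Over.mk (w.left ≫ Z.hom)
    let ci : (Over.map g).obj W' ⟶ W := Over.homMk (𝟙 _) (by
      show 𝟙 _ ≫ W.hom = (w.left ≫ Z.hom) ≫ g
      rw [Category.id_comp, Category.assoc]; exact (Over.w w).symm)
    have : Epi ci.left := inferInstanceAs (Epi (𝟙 W.left))
    have : Epi ci := (Over.forget S).epi_of_epi_map this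
    let a' := (Over.mapPullbackAdj g).homEquiv W' G (ci ≫ a)
    let b' := (Over.mapPullbackAdj g).homEquiv W' H (ci ≫ b)
    have e := (key W' a' b').1 (H0 W' (Over.homMk w.left rfl) a' (b' ≫ i.inv))
    rw [show qPt g a' = ci ≫ a from Equiv.symm_apply_apply _ _,
      show qPt g b' = ci ≫ b from Equiv.symm_apply_apply _ _, Category.assoc, ← MonObj.comp_mul,
      ← MonObj.comp_mul, cancel_epi] at e
    exact e
  · intro H0 W w a b
    have e := (key W a (b ≫ i.hom)).2 (H0 _ ((Over.map g).map w) _ _)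
    rwa [Category.assoc, Category.assoc, Iso.hom_inv_id_assoc] at e

end Groth.Reductive.CentralNhd
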