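import Groth.Agent.Reductive.CentralNhd.Coaction
import Groth.Agent.Reductive.CentralNhd.Conj
import Groth.Agent.AlgGrp2.Basic

/-!
Coactions from actions of diagonalisable groups on affine schemes.
-/

set_option autoImplicit false
universe u

open CategoryTheory MonoidalCategory CartesianMonoidalCategory MonObj GrpObj AlgebraicGeometry
open Groth.Reductive.FreeDiag

noncomputable section

namespace Groth.Reductive.CentralNhd

attribute [local instance] algΓ'

variable {T : Scheme.{u}} [IsAffine T] {M : Type} [AddCommGroup M]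

instance : IsAffine (𝟙_ (Over T)).left := inferInstanceAs (IsAffine T)

/-- Pulling back functions of `D(M) × Y` along a map of the second factor. -/
theorem whisker_appTop {Y Y' : Over T} [IsAffine Y.left] [IsAffine Y'.left] (e : Y' ⟶ Y)
    (f : MonoidAlgebra Γ(Y.left, ⊤) (Multiplicative M)) :
    (Red.DS T M ◁ e).left.appTop (κ₀ f) =
      κ₀ (MonoidAlgebra.mapRingHom (Multiplicative M) e.left.appTop.hom f) := by
  have h := RingHom.congr_fun (ptEv_comp (Red.DS T M ◁ e) (fst (Red.DS T M) Y) (snd (Red.DS T M) Y)) f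
  rw [whiskerLeft_fst, whiskerLeft_snd, RingHom.comp_apply] at h
  refine h.symm.trans ?_
  have e2 : (snd (Red.DS T M) Y' ≫ e).left.appTop.hom =
      (snd (Red.DS T M) Y').left.appTop.hom.comp e.left.appTop.hom := by
    rw [Over.comp_left, Scheme.Hom.comp_appTop]; rfl
  rw [ptEv, e2, ev_comp_eq]
  rfl

/-- The coefficients of a function vanishing on `D(M) × Y'` vanish on `Y'`. -/
theorem coeff_eq_zero_of_whisker {Y Y' : Over T} [IsAffine Y.left] [IsAffine Y'.left] (e : Y' ⟶ Y)
    (f : MonoidAlgebra Γ(Y.left, ⊤) (Multiplicative M))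
    (h : (Red.DS T M ◁ e).left.appTop (κ₀ f) = 0) (g : Multiplicative M) :
    e.left.appTop (f.coeff g) = 0 := by
  rw [whisker_appTop, ← map_zero (κ₀ (T := T) (M := M) (Y := Y'))] at h
  exact (mapRingHom_eq_zero_iff e.left.appTop.hom f).1 (κ₀_bijective.1 h) g

/-- The comorphism of an action of `D(M)` on an affine scheme. -/
theorem exists_coaction {Y : Over T} [IsAffine Y.left] (act : Red.DS T M ⊗ Y ⟶ Y)
    (hassoc : ∀ (Z : Over T) (h h' : Z ⟶ Red.DS T M) (y : Z ⟶ Y),
      lift h (lift h' y ≫ act) ≫ act = lift (h * h') y ≫ act)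
    (hone : ∀ (Z : Over T) (y : Z ⟶ Y), lift 1 y ≫ act = y) :
    ∃ ψ : Γ(Y.left, ⊤) →+* MonoidAlgebra Γ(Y.left, ⊤) (Multiplicative M),
      (∀ (C : Type u) [CommRing C] (jc : Γ(Y.left, ⊤) →+* C) (χ χ' : Multiplicative M →* C) b,
        ev ((ev jc χ).comp ψ) χ' (ψ b) = ev jc (χ' * χ) (ψ b)) ∧
      (ev (RingHom.id _) 1).comp ψ = RingHom.id _ ∧
      (∀ r, ψ (Y.hom.appTop.hom r) = MonoidAlgebra.single 1 (Y.hom.appTop.hom r)) ∧
      (∀ (Z : Over T) (h : Z ⟶ Red.DS T M) (y : Z ⟶ Y),
        (lift h y ≫ act).left.appTop.hom = (ptEv h y).comp ψ) := by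
  let e := RingEquiv.ofBijective _ (κ₀_bijective (T := T) (M := M) (Y := Y))
  let ψ : Γ(Y.left, ⊤) →+* MonoidAlgebra Γ(Y.left, ⊤) (Multiplicative M) :=
    e.symm.toRingHom.comp act.left.appTop.hom
  have hψ : ∀ (Z : Over T) (h : Z ⟶ Red.DS T M) (y : Z ⟶ Y),
      (lift h y ≫ act).left.appTop.hom = (ptEv h y).comp ψ := by
    intro Z h y
    refine RingHom.ext fun b ↦ ?_
    have h1 := ptEv_comp (lift h y) (fst (Red.DS T M) Y) (snd (Red.DS T M) Y)
    rw [lift_fst, lift_snd] at h1
    rw [h1, Over.comp_left, Scheme.Hom.comp_appTop]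
    exact congrArg (lift h y).left.appTop.hom (e.apply_symm_apply _).symm
  have hκ : ∀ b, κ₀ (T := T) (M := M) (MonoidAlgebra.single 1 b) =
      (snd (Red.DS T M) Y).left.appTop b := fun b ↦ by
    rw [κ₀, ptEv_single, ← dsValHom_apply, map_one, _root_.mul_one]
  refine ⟨ψ, ?_, ?_, ?_, hψ⟩
  · intro C _ jC χ χ' b
    apply (ΓT_bijective C jC).1
    have h := congrArg (fun g : mkT C jC ⟶ Y ↦ g.left.appTop.hom b)
      (hassoc _ (hT C jC χ') (hT C jC χ) (yT C jC))
    simp only [hψ, RingHom.comp_apply] at h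
    have e1 : ptEv (hT C jC χ') (lift (hT C jC χ) (yT C jC) ≫ act) =
        (ΓT C jC).comp (ev ((ev jC χ).comp ψ) χ') := by
      rw [← ev_eq, ptEv, hψ, ptEv_hT]
      congr 1
      exact MonoidHom.ext fun m ↦ dsVal_hT C jC χ' m
    have e2 : ptEv (hT C jC χ' * hT C jC χ) (yT C jC) = (ΓT C jC).comp (ev jC (χ' * χ)) := by
      rw [← ev_eq, ptEv, yT_appTop]
      congr 1
      rw [dsValHom_mul_hT]
      refine MonoidHom.ext fun m ↦ ?_
      rw [MonoidHom.mul_apply, dsValHom_apply, dsValHom_apply, dsVal_hT, dsVal_hT,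
        MonoidHom.comp_apply, MonoidHom.mul_apply, map_mul]
      rfl
    rw [e1, e2] at h
    exact h
  · have h := hψ Y 1 (𝟙 Y)
    rw [hone, ptEv, dsValHom_one] at h
    simpa using h.symm
  · intro r
    refine e.injective (Eq.trans (e.apply_symm_apply _) ?_)
    show act.left.appTop (Y.hom.appTop r) = κ₀ (MonoidAlgebra.single 1 _)
    rw [hκ]
    show (Y.hom.appTop ≫ act.left.appTop) r = (Y.hom.appTop ≫ (snd (Red.DS T M) Y).left.appTop) r
    rw [← Scheme.Hom.comp_appTop, ← Scheme.Hom.comp_appTop, Over.w act,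
      Over.w (snd (Red.DS T M) Y)]

/-- The ideal generated by a set of functions, spread to the group algebra. -/
theorem mem_map_singleOne {C G : Type*} [CommRing C] [CommGroup G] (J : Ideal C) (f : MonoidAlgebra C G)
    (h : ∀ g, f.coeff g ∈ J) :
    f ∈ J.map (MonoidAlgebra.singleOneRingHom : C →+* MonoidAlgebra C G) := by
  rw [← MonoidAlgebra.sum_coeff_single f]
  refine Ideal.sum_mem _ fun g _ ↦ ?_
  rw [show MonoidAlgebra.single g (f.coeff g) =
      MonoidAlgebra.singleOneRingHom (f.coeff g) * MonoidAlgebra.single g 1 by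
    show _ = MonoidAlgebra.single 1 _ * _
    rw [MonoidAlgebra.single_mul_single, _root_.one_mul, _root_.mul_one]]
  exact Ideal.mul_mem_right _ _ (Ideal.mem_map_of_mem _ (h g))

end Groth.Reductive.CentralNhd
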