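import Groth.Agent.Reductive.CentralNhd.Levels
import Groth.Agent.Reductive.TrivialActionFibres
import Groth.Agent.PropsBasic2.Misc
import Mathlib.RingTheory.FinitePresentation

/-!
On a chart, centrality over a point gives centrality on all infinitesimal neighbourhoods of the unit
over a basic open.
-/

set_option autoImplicit false
set_option backward.isDefEq.respectTransparency false
universe u

open CategoryTheory MonoidalCategory CartesianMonoidalCategory MonObj GrpObj AlgebraicGeometry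
open Groth.Reductive.FreeDiag

noncomputable section

namespace Groth.Reductive.CentralNhd

attribute [local instance] algΓ'

/-- A map killing a prime and inverting its complement factors through the fraction field. -/
lemma exists_frac_factor {R C : Type u} [CommRing R] [CommRing C] (φ : R →+* C) (p : Ideal R)
    [p.IsPrime] (h0 : ∀ r ∈ p, φ r = 0) (h1 : ∀ r, r ∉ p → IsUnit (φ r)) :
    ∃ φK : FractionRing (R ⧸ p) →+* C,
      φK.comp ((algebraMap _ _).comp (Ideal.Quotient.mk p)) = φ := by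
  let φ' : R ⧸ p →+* C := Ideal.Quotient.lift p φ h0
  have hunit : ∀ y : nonZeroDivisors (R ⧸ p), IsUnit (φ' y) := fun y ↦ by
    obtain ⟨r, hr⟩ := Ideal.Quotient.mk_surjective (y : R ⧸ p)
    rw [← hr, Ideal.Quotient.lift_mk]
    exact h1 r fun h ↦ nonZeroDivisors.coe_ne_zero y
      (by rw [← hr, Ideal.Quotient.eq_zero_iff_mem.mpr h])
  exact ⟨IsLocalization.lift hunit, RingHom.ext fun r ↦ IsLocalization.lift_eq hunit _⟩

variable {T : Scheme.{u}} [IsAffine T] {M : Type} [AddCommGroup M] {G : Over T} [GrpObj G]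
  {WT : Over T} [IsAffine WT.left] (w : WT ⟶ G) (eW : 𝟙_ (Over T) ⟶ WT)
  [LocallyOfFinitePresentation WT.hom]
  (v : Red.DS T M ⟶ G) [IsMonHom v] [IsOpenImmersion w.left] (heW : eW ≫ w = η[G])

omit [IsAffine WT.left] in
lemma appTop_hom_section (r : Γ(T, ⊤)) : eW.left.appTop.hom (WT.hom.appTop.hom r) = r := by
  rw [← RingHom.comp_apply, ← CommRingCat.hom_comp, ← Scheme.Hom.comp_appTop, Over.w eW]
  show (𝟙 T : T ⟶ T).appTop.hom r = r
  rw [Scheme.Hom.id_appTop]
  rfl

/-- The augmentation ideal is of finite type. -/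
lemma augIdeal_fg : (augIdeal eW).FG := by
  letI := eW.left.appTop.hom.toAlgebra
  let jW := WT.hom.appTop.hom
  have hW : jW.FinitePresentation :=
    (HasRingHomProperty.iff_of_isAffine (P := @LocallyOfFinitePresentation)).mp ‹_›
  letI := jW.toAlgebra
  haveI : Algebra.FinitePresentation Γ(T, ⊤) Γ(WT.left, ⊤) := hW
  let e : Γ(WT.left, ⊤) →ₐ[Γ(T, ⊤)] Γ(T, ⊤) :=
    { eW.left.appTop.hom with commutes' := fun r ↦ appTop_hom_section eW r }
  exact Algebra.FinitePresentation.ker_fG_of_surjective e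
    fun r ↦ ⟨jW r, appTop_hom_section eW r⟩

include heW in
/-- Centrality over a point spreads to all neighbourhoods of the unit over a basic open. -/
theorem exists_kills_nbhd (t : T) (h0 : TrivOn (commMap v) (Over.mk (T.fromSpecResidueField t))) :
    ∃ s, t ∈ T.basicOpen s ∧ ∀ (n : ℕ) (Z : Over T), IsUnit (Z.hom.appTop.hom s) →
      ∀ (h : Z ⟶ Red.DS T M) (y : Z ⟶ WT),
        (∀ b ∈ augIdeal eW ^ n, y.left.appTop b = 0) → lift h (y ≫ w) ≫ conjMor v = y ≫ w := by
  classical
  haveI : Mono w := Over.mono_of_mono_left w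
  -- the first neighbourhood
  set N₂ := nbhd eW (1 + 1)
  set jN₂ := nbhdι eW (1 + 1)
  obtain ⟨act₂, en₂, ψ₂, hact₂, hen₂, hker₂, hsec₂, hco₂, hone₂, hj₂, hstab₂, hψ₂⟩ :=
    exists_nbhd_coaction w eW v heW 1
  set j₂ := N₂.hom.appTop.hom
  let p : Ideal Γ(T, ⊤) := (T.isoSpec.hom t).asIdeal
  have hsq : RingHom.ker en₂.left.appTop.hom ^ 2 = ⊥ := by
    rw [hker₂, ← Ideal.map_pow, eq_bot_iff, Ideal.map_le_iff_le_comap]
    exact fun b hb ↦ (nbhdι_appTop_eq_zero eW _ b).2 hb
  have hfg : (RingHom.ker en₂.left.appTop.hom).FG := hker₂ ▸ (augIdeal_fg eW).map _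
  have hp : ∀ x ∈ RingHom.ker en₂.left.appTop.hom, ∀ g, g ≠ 1 →
      ∃ s, s ∉ p ∧ j₂ s * (ψ₂ x).coeff g ∈ p.map j₂ := by
    intro b _ g hg
    obtain ⟨L, _, π, hπ0, hπ1, hπker⟩ := exists_fibre_ring j₂ p
    suffices h2 : π ((ψ₂ b).coeff g) = 0 by
      obtain ⟨s, hs, hmem⟩ := hπker _ h2
      exact ⟨s, hs, hmem⟩
    let C := MonoidAlgebra L (Multiplicative M)
    let jC : Γ(N₂.left, ⊤) →+* C := MonoidAlgebra.singleOneRingHom.comp π
    let χ : Multiplicative M →* C := MonoidAlgebra.of _ _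
    obtain ⟨φK, hφK⟩ := exists_frac_factor (jC.comp j₂) p
      (fun r hr ↦ by
        show MonoidAlgebra.singleOneRingHom (π (j₂ r)) = 0
        rw [hπ0 r hr, map_zero])
      (fun r hr ↦ (hπ1 r hr).map MonoidAlgebra.singleOneRingHom)
    let ιK : Γ(T, ⊤) →+* FractionRing (Γ(T, ⊤) ⧸ p) :=
      (algebraMap _ _).comp (Ideal.Quotient.mk p)
    let x := Spec.map (CommRingCat.ofHom ιK) ≫ T.isoSpec.inv
    have himg : x.base (IsLocalRing.closedPoint _) = t := by
      rw [Scheme.Hom.comp_apply]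
      have e : Spec.map (CommRingCat.ofHom ιK) (IsLocalRing.closedPoint _) = T.isoSpec.hom t := by
        refine PrimeSpectrum.ext ?_
        show Ideal.comap ιK (IsLocalRing.maximalIdeal _) = p
        rw [IsLocalRing.maximalIdeal_eq_bot, ← RingHom.ker_eq_comap_bot]
        refine Eq.trans ?_ (Ideal.mk_ker (I := p))
        exact RingHom.ker_comp_of_injective _ (IsFractionRing.injective _ _)
      rw [e]
      exact (congrArg (fun f : T ⟶ T ↦ f.base t) T.isoSpec.hom_inv_id)
    have htriv : TrivOn (commMap v) (Over.mk x) := by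
      rw [trivOn_fieldPoint_iff', himg]
      exact h0
    have hw : Spec.map (CommRingCat.ofHom φK) ≫ x = (mkT C jC).hom := by
      rw [← Spec.map_comp_assoc, ← CommRingCat.ofHom_comp, hφK, CommRingCat.ofHom_comp,
        Spec.map_comp_assoc]
      show _ = Spec.map (CommRingCat.ofHom jC) ≫ N₂.left.isoSpec.inv ≫ N₂.hom
      rw [← Scheme.isoSpec_inv_naturality]
      rfl
    have hfix : lift (hT C jC χ) (yT C jC) ≫ act₂ = yT C jC := by
      rw [← cancel_mono (jN₂ ≫ w), Category.assoc, hact₂, lift_whiskerLeft_assoc]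
      exact (trivOn_conj_iff v).1 htriv _ (Over.homMk (Spec.map (CommRingCat.ofHom φK)) hw) _ _
    have h := hψ₂ _ (hT C jC χ) (yT C jC)
    rw [hfix, ptEv_hT, yT_appTop] at h
    have h' : jC b = ev jC χ (ψ₂ b) := (ΓT_bijective C jC).1 (RingHom.congr_fun h b)
    have hmap : ev jC χ = MonoidAlgebra.mapRingHom _ π := by
      refine MonoidAlgebra.ringHom_ext (fun r ↦ ?_) (fun a ↦ ?_)
      · simp [ev_single, jC, χ, MonoidAlgebra.single_mul_single]
        exact (MonoidAlgebra.mapRingHom_single _ _ _).symm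
      · simp [ev_single, jC, χ, MonoidAlgebra.single_mul_single]
        rw [MonoidAlgebra.mapRingHom_single, map_one]; rfl
    rw [hmap] at h'
    rw [← MonoidAlgebra.coeff_mapRingHom, ← h']
    show (MonoidAlgebra.single (1 : Multiplicative M) (π b) : C).coeff g = 0
    simp [MonoidAlgebra.coeff_single, hg]
  obtain ⟨s, hs, hkill₂⟩ := exists_away ψ₂ hco₂ j₂ hj₂ en₂.left.appTop.hom hsec₂ hsq hfg p hp hstab₂
  refine ⟨s, ?_, fun n Z hZ h y hy ↦ ?_⟩
  · have e : T.basicOpen s = T.isoSpec.hom ⁻¹ᵁ PrimeSpectrum.basicOpen s := by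
      rw [Scheme.isoSpec_hom]
      exact (Scheme.toSpecΓ_preimage_basicOpen T s).symm
    rw [e]
    exact hs
  -- higher neighbourhoods
  set N := nbhd eW (n + 1 + 1)
  set jN := nbhdι eW (n + 1 + 1)
  obtain ⟨act, en, ψ, hact, hen, hker, hsec, hco, hone, hj, hstab, hψ⟩ :=
    exists_nbhd_coaction w eW v heW (n + 1)
  set j := N.hom.appTop.hom
  obtain ⟨k, hk⟩ := exists_factor_nbhd eW jN₂ (n + 1 + 1) fun b hb ↦
    (nbhdι_appTop_eq_zero eW _ b).2 (Ideal.pow_le_pow_right (by omega) hb)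
  haveI : Mono jN₂ := inferInstance
  haveI : Mono jN := inferInstance
  have hk' : (Red.DS T M ◁ k) ≫ act = act₂ ≫ k := by
    rw [← cancel_mono (jN ≫ w), Category.assoc, hact, Category.assoc, reassoc_of% hk, hact₂,
      ← Category.assoc, ← MonoidalCategory.whiskerLeft_comp, reassoc_of% hk]
  have hcomm : ∀ x, ψ₂ (k.left.appTop.hom x) =
      MonoidAlgebra.mapRingHom (Multiplicative M) k.left.appTop.hom (ψ x) := by
    intro x
    apply κ₀_bijective.1
    have e1 := RingHom.congr_fun (hψ _ (fst (Red.DS T M) N) (snd (Red.DS T M) N)) x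
    have e2 := RingHom.congr_fun (hψ₂ _ (fst (Red.DS T M) N₂) (snd (Red.DS T M) N₂))
      (k.left.appTop.hom x)
    rw [lift_fst_snd, Category.id_comp] at e1 e2
    rw [show κ₀ (ψ₂ (k.left.appTop.hom x)) = act₂.left.appTop.hom (k.left.appTop.hom x) from e2.symm,
      ← whisker_appTop, show κ₀ (ψ x) = act.left.appTop.hom x from e1.symm]
    show act₂.left.appTop.hom (k.left.appTop.hom x) =
      (Red.DS T M ◁ k).left.appTop.hom (act.left.appTop.hom x)
    rw [← RingHom.comp_apply, ← RingHom.comp_apply, ← CommRingCat.hom_comp, ← CommRingCat.hom_comp,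
      ← Scheme.Hom.comp_appTop, ← Scheme.Hom.comp_appTop, ← Over.comp_left, ← Over.comp_left, hk']
  have hken : en₂ ≫ k = en := by
    rw [← cancel_mono jN, Category.assoc, hk, hen₂, hen]
  have hkj : ∀ r, k.left.appTop.hom (j r) = j₂ r := fun r ↦ by
    rw [← RingHom.comp_apply, ← CommRingCat.hom_comp, ← Scheme.Hom.comp_appTop, Over.w k]
  have hs' : ∀ x ∈ RingHom.ker en.left.appTop.hom, ∀ g, g ≠ 1 →
      j s * (ψ x).coeff g ∈ RingHom.ker en.left.appTop.hom ^ 2 := by
    intro x hx g hg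
    have hx₂ : k.left.appTop.hom x ∈ RingHom.ker en₂.left.appTop.hom := by
      show en₂.left.appTop.hom (k.left.appTop.hom x) = 0
      rw [← RingHom.comp_apply, ← CommRingCat.hom_comp, ← Scheme.Hom.comp_appTop, ← Over.comp_left,
        hken]
      exact hx
    have h2 : k.left.appTop.hom (j s * (ψ x).coeff g) = 0 := by
      rw [map_mul, hkj, ← MonoidAlgebra.coeff_mapRingHom, ← hcomm]
      exact hkill₂ _ hx₂ g hg
    obtain ⟨b, hb⟩ := nbhdι_appTop_surjective eW (n + 1 + 1) (j s * (ψ x).coeff g)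
    rw [← hb, hker, ← Ideal.map_pow]
    refine Ideal.mem_map_of_mem _ ?_
    rw [← nbhdι_appTop_eq_zero eW]
    show jN₂.left.appTop.hom b = 0
    rw [← hk]
    show (k ≫ jN).left.appTop.hom b = 0
    rw [Over.comp_left, Scheme.Hom.comp_appTop, CommRingCat.hom_comp, RingHom.comp_apply, hb]
    exact h2
  -- the point
  obtain ⟨y', rfl⟩ := exists_factor_nbhd eW y (n + 1 + 1) fun b hb ↦
    hy b (Ideal.pow_le_pow_right (by omega) hb)
  have hfix : lift h y' ≫ act = y' := by
    refine Over.OverMorphism.ext (ext_of_isAffine (CommRingCat.hom_ext ?_))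
    rw [hψ]
    refine RingHom.ext fun c ↦ ?_
    rw [RingHom.comp_apply, ptEv]
    refine ev_eq_of_coeff_eq_zero ψ j hj en.left.appTop.hom hsec hone _ _ (fun x hx g hg ↦ ?_) c
    obtain ⟨m, hm⟩ := exists_pow_mul_mem ψ hco j hj en.left.appTop.hom hsec hstab s hs' (n + 1 + 1)
      x hx g hg
    have h0' : (RingHom.ker en.left.appTop.hom) ^ (n + 1 + 1) = ⊥ := by
      rw [hker, ← Ideal.map_pow, eq_bot_iff, Ideal.map_le_iff_le_comap]
      exact fun b hb ↦ (nbhdι_appTop_eq_zero eW _ b).2 hb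
    rw [h0', Ideal.mem_bot] at hm
    have hu : IsUnit (y'.left.appTop.hom (j s) ^ m) := by
      refine IsUnit.pow m ?_
      rw [← RingHom.comp_apply, ← CommRingCat.hom_comp, ← Scheme.Hom.comp_appTop, Over.w y']
      exact hZ
    refine hu.mul_right_eq_zero.1 ?_
    rw [← map_pow, ← map_mul, hm, map_zero]
  calc lift h ((y' ≫ jN) ≫ w) ≫ conjMor v
      = (lift h y' ≫ act) ≫ jN ≫ w := by
        rw [Category.assoc (lift h y'), hact, lift_whiskerLeft_assoc, Category.assoc]
    _ = (y' ≫ jN) ≫ w := by rw [hfix, Category.assoc]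

end Groth.Reductive.CentralNhd
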