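import Groth.Agent.Reductive.TrivialLocus
import Mathlib.LinearAlgebra.Matrix.Charpoly.LinearMap
import Mathlib.RingTheory.Localization.AtPrime.Basic

/-!
Coactions of a group algebra on infinitesimal neighbourhoods of a fixed section: triviality on the
first neighbourhood at a point spreads to a neighbourhood and to all higher neighbourhoods.
-/

set_option autoImplicit false
universe u v

noncomputable section

namespace Groth.Reductive.CentralNhd

open MonoidAlgebra Groth.Reductive.FreeDiag

variable {R : Type u} [CommRing R] {C : Type u} [CommRing C] {G : Type v} [CommGroup G]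

/-- Coefficients of the product of two homogeneous images. -/
lemma coeff_mul_mem {P : Ideal C} {F F' : MonoidAlgebra C G} (g : G)
    (h : ∀ a b, a * b = g → F.coeff a * F'.coeff b ∈ P) : (F * F').coeff g ∈ P := by
  classical
  rw [← sum_coeff_single F, ← sum_coeff_single F', Finsupp.sum, Finsupp.sum, Finset.sum_mul_sum,
    coeff_sum, Finset.sum_apply']
  refine P.sum_mem fun a _ ↦ ?_
  rw [coeff_sum, Finset.sum_apply']
  refine P.sum_mem fun b _ ↦ ?_
  rw [single_mul_single, coeff_single, Finsupp.single_apply]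
  split_ifs with hab
  · exact h a b hab
  · exact P.zero_mem

variable (ψ : C →+* MonoidAlgebra C G)
  (hco : ∀ (D : Type max u v) [CommRing D] (jd : C →+* D) (χ χ' : G →* D) (b : C),
    ev ((ev jd χ).comp ψ) χ' (ψ b) = ev jd (χ' * χ) (ψ b))
  (j : R →+* C) (hj : ∀ r, ψ (j r) = single 1 (j r)) (ε : C →+* R) (hε : ∀ r, ε (j r) = r)

include hj in
lemma coeff_scal (r : R) (c : C) (g : G) : (ψ (j r * c)).coeff g = j r * (ψ c).coeff g := by
  rw [map_mul, hj]
  exact coeff_single_one_mul (ψ c) (j r) g

include hε in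
lemma sub_mem_ker (c : C) : c - j (ε c) ∈ RingHom.ker ε := by
  rw [RingHom.mem_ker, map_sub, hε, sub_self]

include hco hj hε in
/-- **Nakayama**: triviality of the coaction on the square-zero neighbourhood of the section at a
prime holds near the prime. -/
theorem exists_away (h2 : RingHom.ker ε ^ 2 = ⊥) (hfg : (RingHom.ker ε).FG) (p : Ideal R) [p.IsPrime]
    (hp : ∀ x ∈ RingHom.ker ε, ∀ g, g ≠ 1 → ∃ s, s ∉ p ∧ j s * (ψ x).coeff g ∈ p.map j)
    (hstab : ∀ x ∈ RingHom.ker ε, ∀ g, (ψ x).coeff g ∈ RingHom.ker ε) :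
    ∃ s, s ∉ p ∧ ∀ x ∈ RingHom.ker ε, ∀ g, g ≠ 1 → j s * (ψ x).coeff g = 0 := by
  classical
  letI := j.toAlgebra
  set J := RingHom.ker ε with hJ
  have hlin : ∀ c, ∀ a ∈ J, c * a = j (ε c) * a := fun c a ha ↦ by
    rw [← sub_eq_zero, ← sub_mul, ← Submodule.mem_bot C, ← h2, pow_two]
    exact Ideal.mul_mem_mul (sub_mem_ker j ε hε c) ha
  obtain ⟨gens, hgens⟩ := hfg
  let t₀ : Finset C := gens.biUnion fun x ↦ ((ψ x).coeff.support.erase 1).image fun g ↦ (ψ x).coeff g
  let N : Submodule R C := Submodule.span R t₀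
  have hmemN : ∀ x ∈ J, ∀ g, g ≠ 1 → (ψ x).coeff g ∈ N := by
    intro x hx
    rw [← hgens] at hx
    induction hx using Submodule.span_induction with
    | mem x hx =>
      intro g hg
      by_cases h : (ψ x).coeff g = 0
      · rw [h]; exact N.zero_mem
      · exact Submodule.subset_span (Finset.mem_biUnion.mpr ⟨x, hx, Finset.mem_image.mpr
          ⟨g, Finset.mem_erase.mpr ⟨hg, Finsupp.mem_support_iff.mpr h⟩, rfl⟩⟩)
    | zero => intro g _; simp
    | add x z _ _ hx hz =>
      intro g hg
      rw [map_add, coeff_add, Finsupp.add_apply]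
      exact N.add_mem (hx g hg) (hz g hg)
    | smul a x hxm hx =>
      intro g hg
      rw [smul_eq_mul, hlin a x (hgens ▸ hxm), coeff_scal ψ j hj]
      exact N.smul_mem (ε a) (hx g hg)
  have hhom : ∀ a ∈ t₀, ∃ g, g ≠ 1 ∧ ψ a = single g a ∧ a ∈ J := by
    intro a ha
    obtain ⟨x, hx, ha⟩ := Finset.mem_biUnion.mp ha
    obtain ⟨g, hg, rfl⟩ := Finset.mem_image.mp ha
    exact ⟨g, (Finset.mem_erase.mp hg).1, coaction_coeff ψ hco x g,
      hstab x (hgens ▸ Submodule.subset_span hx) g⟩
  have hs : ∀ a : t₀, ∃ s, s ∉ p ∧ j s * (a : C) ∈ p.map j := fun a ↦ by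
    obtain ⟨g, hg, he, haJ⟩ := hhom a a.2
    obtain ⟨s, hs, hmem⟩ := hp _ haJ g hg
    rw [he, coeff_single, Finsupp.single_eq_same] at hmem
    exact ⟨s, hs, hmem⟩
  choose sf hsf hsfmem using hs
  let s₀ := ∏ a : t₀, sf a
  have hs₀ : s₀ ∉ p := fun h ↦ by
    obtain ⟨a, -, ha⟩ := (Ideal.IsPrime.prod_mem_iff (hp := ‹p.IsPrime›)).mp h
    exact hsf a ha
  have hpN : ∀ y ∈ p.map j, ∀ g, g ≠ 1 → (ψ y).coeff g ∈ p • N := by
    intro y hy g hg
    induction hy using Submodule.span_induction with
    | mem y hy =>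
      obtain ⟨r, hr, rfl⟩ := hy
      rw [hj, coeff_single, Finsupp.single_apply, if_neg (Ne.symm hg)]
      exact (p • N).zero_mem
    | zero => simp
    | add y z _ _ hy hz =>
      rw [map_add, coeff_add, Finsupp.add_apply]
      exact (p • N).add_mem hy hz
    | smul c y hym _ =>
      rw [smul_eq_mul]
      have key : ∀ y ∈ p.map j, ∀ c, (ψ (c * y)).coeff g ∈ p • N := by
        intro y hy
        induction hy using Submodule.span_induction with
        | mem y hy =>
          intro c
          obtain ⟨r, hr, rfl⟩ := hy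
          rw [mul_comm, coeff_scal ψ j hj]
          refine Submodule.smul_mem_smul hr ?_
          have e : c = j (ε c) + (c - j (ε c)) := (add_sub_cancel _ _).symm
          rw [e, map_add, coeff_add, Finsupp.add_apply, hj, coeff_single, Finsupp.single_apply,
            if_neg (Ne.symm hg), zero_add]
          exact hmemN _ (sub_mem_ker j ε hε c) g hg
        | zero => intro c; simp
        | add y z _ _ hy hz =>
          intro c
          rw [mul_add, map_add, coeff_add, Finsupp.add_apply]
          exact (p • N).add_mem (hy c) (hz c)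
        | smul a y _ hy =>
          intro c
          rw [smul_eq_mul, ← _root_.mul_assoc]
          exact hy (c * a)
      exact key y hym c
  let f : N →ₗ[R] N := s₀ • LinearMap.id
  have hf : LinearMap.range f ≤ p • (⊤ : Submodule R N) := by
    rintro _ ⟨z, rfl⟩
    have : ∀ z ∈ N, s₀ • z ∈ p • N := by
      intro z hz
      induction hz using Submodule.span_induction with
      | mem a ha =>
        obtain ⟨g, hg, he, -⟩ := hhom a ha
        have h1 : j s₀ * a ∈ p.map j := by
          rw [show s₀ = sf ⟨a, ha⟩ * ∏ b ∈ Finset.univ.erase ⟨a, ha⟩, sf b from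
            (Finset.mul_prod_erase _ _ (Finset.mem_univ _)).symm, map_mul, mul_comm (j _), _root_.mul_assoc]
          exact Ideal.mul_mem_left _ _ (hsfmem ⟨a, ha⟩)
        have h2 := hpN _ h1 g hg
        rw [coeff_scal ψ j hj, he, coeff_single, Finsupp.single_eq_same] at h2
        exact h2
      | zero => simp
      | add a b _ _ ha hb => rw [smul_add]; exact (p • N).add_mem ha hb
      | smul r a _ ha => rw [smul_comm]; exact (p • N).smul_mem r ha
    have h3 := this z z.2
    rw [show p • N = Submodule.map N.subtype (p • ⊤) by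
      rw [Submodule.map_smul'', Submodule.map_subtype_top]] at h3
    obtain ⟨w, hw, e⟩ := h3
    rwa [show f z = w from Subtype.ext e.symm]
  haveI : Module.Finite R N := Module.Finite.span_of_finite R t₀.finite_toSet
  obtain ⟨P, hmonic, -, hcoeff, haev⟩ :=
    LinearMap.exists_monic_and_coeff_mem_pow_and_aeval_eq_zero_of_range_le_smul R f p hf
  have hfa : f = algebraMap R (Module.End R N) s₀ := by
    rw [Algebra.algebraMap_eq_smul_one]; rfl
  rw [hfa, Polynomial.aeval_algebraMap_apply, Polynomial.coe_aeval_eq_eval] at haev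
  refine ⟨P.eval s₀, fun h ↦ ?_, fun x hx g hg ↦ ?_⟩
  · rw [Polynomial.eval_eq_sum_range, Finset.sum_range_succ, hmonic.coeff_natDegree,
      _root_.one_mul] at h
    have hsum : ∑ i ∈ Finset.range P.natDegree, P.coeff i * s₀ ^ i ∈ p := by
      refine p.sum_mem fun i hi ↦ p.mul_mem_right _ ?_
      exact Ideal.pow_le_self (Nat.sub_ne_zero_of_lt (Finset.mem_range.mp hi)) (hcoeff i)
    exact hs₀ (Ideal.IsPrime.mem_of_pow_mem ‹_› _ ((p.add_mem_iff_right hsum).mp h))
  · have h := congrArg Subtype.val (LinearMap.congr_fun haev ⟨_, hmemN x hx g hg⟩)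
    exact h

include hco hj hε in
/-- Triviality on the first neighbourhood gives triviality on all of them where `s` is invertible. -/
theorem exists_pow_mul_mem (hstab : ∀ x ∈ RingHom.ker ε, ∀ g, (ψ x).coeff g ∈ RingHom.ker ε)
    (s : R) (hs : ∀ x ∈ RingHom.ker ε, ∀ g, g ≠ 1 → j s * (ψ x).coeff g ∈ RingHom.ker ε ^ 2) :
    ∀ (k : ℕ), ∀ x ∈ RingHom.ker ε, ∀ g, g ≠ 1 →
      ∃ m : ℕ, j s ^ m * (ψ x).coeff g ∈ RingHom.ker ε ^ k := by
  classical
  set J := RingHom.ker ε
  intro k
  induction k with
  | zero => intro x _ g _; exact ⟨0, by simp⟩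
  | succ k ih =>
    intro x hx g hg
    have key : ∀ y ∈ J * J, ∃ m : ℕ, j s ^ m * (ψ y).coeff g ∈ J ^ (k + 1) := by
      intro y hy
      induction hy using Submodule.mul_induction_on' with
      | mem_mul_mem a ha b hb =>
        have hm : ∀ c ∈ J, ∃ m : ℕ, ∀ h, h ≠ 1 → j s ^ m * (ψ c).coeff h ∈ J ^ k := by
          intro c hc
          choose f hf using fun h : {h : G // h ≠ 1} ↦ ih c hc h.1 h.2
          refine ⟨∑ h ∈ (ψ c).coeff.support, if hh : h ≠ 1 then f ⟨h, hh⟩ else 0, fun h hh ↦ ?_⟩
          by_cases h0 : h ∈ (ψ c).coeff.support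
          · have hle : f ⟨h, hh⟩ ≤ ∑ h ∈ (ψ c).coeff.support, if hh : h ≠ 1 then f ⟨h, hh⟩ else 0 := by
              refine le_trans (le_of_eq ?_) (Finset.single_le_sum (fun _ _ ↦ Nat.zero_le _) h0)
              rw [dif_pos hh]
            rw [← Nat.sub_add_cancel hle, pow_add, _root_.mul_assoc]
            exact (J ^ k).mul_mem_left _ (hf ⟨h, hh⟩)
          · rw [Finsupp.notMem_support_iff.mp h0, MulZeroClass.mul_zero]; exact (J ^ k).zero_mem
        obtain ⟨ma, hma⟩ := hm a ha
        obtain ⟨mb, hmb⟩ := hm b hb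
        refine ⟨ma + mb, ?_⟩
        have e : j s ^ (ma + mb) * (ψ (a * b)).coeff g =
            ((single 1 (j s ^ ma) * ψ a) * (single 1 (j s ^ mb) * ψ b)).coeff g := by
          rw [mul_mul_mul_comm, single_mul_single, _root_.one_mul, ← pow_add, ← map_mul]
          exact (coeff_single_one_mul (ψ (a * b)) _ g).symm
        rw [e]
        refine coeff_mul_mem g fun h h' hhh ↦ ?_
        rw [coeff_single_one_mul, coeff_single_one_mul]
        by_cases hh : h = 1
        · have hh' : h' ≠ 1 := fun e ↦ hg (by rw [← hhh, hh, e, _root_.one_mul])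
          rw [pow_succ', ]
          exact Ideal.mul_mem_mul (J.mul_mem_left _ (hstab a ha h)) (hmb h' hh')
        · rw [pow_succ]
          exact Ideal.mul_mem_mul (hma h hh) (J.mul_mem_left _ (hstab b hb h'))
      | add y _ z _ hy hz =>
        obtain ⟨my, hy⟩ := hy
        obtain ⟨mz, hz⟩ := hz
        refine ⟨my + mz, ?_⟩
        rw [map_add, coeff_add, Finsupp.add_apply, mul_add]
        refine (J ^ (k + 1)).add_mem ?_ ?_
        · rw [add_comm my, pow_add (j s), _root_.mul_assoc]; exact (J ^ (k+1)).mul_mem_left _ hy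
        · rw [pow_add (j s), _root_.mul_assoc]; exact (J ^ (k+1)).mul_mem_left _ hz
    obtain ⟨m, hm⟩ := key _ (pow_two J ▸ hs x hx g hg)
    refine ⟨m + 1, ?_⟩
    rw [coeff_scal ψ j hj, coaction_coeff ψ hco, coeff_single, Finsupp.single_eq_same,
      ← _root_.mul_assoc, ← pow_succ] at hm
    exact hm

include hj hε in
/-- A point where the non-trivial coefficients vanish is fixed. -/
theorem ev_eq_of_coeff_eq_zero (hone : (ev (RingHom.id C) 1).comp ψ = RingHom.id C)
    {D : Type max u v} [CommRing D] (π : C →+* D) (χ : G →* D)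
    (h : ∀ x ∈ RingHom.ker ε, ∀ g, g ≠ 1 → π ((ψ x).coeff g) = 0) (c : C) :
    ev π χ (ψ c) = π c := by
  have hx : ∀ x ∈ RingHom.ker ε, ev π χ (ψ x) = π x := by
    intro x hx
    have e1 : ∀ χ₀ : G →* D, ev π χ₀ (ψ x) = π ((ψ x).coeff 1) := by
      intro χ₀
      rw [ringHom_eq_sum, Finset.sum_eq_single 1]
      · simp [ev_single]
      · intro g _ hg; rw [ev_single, h x hx g hg, zero_mul]
      · intro hn; rw [Finsupp.notMem_support_iff.mp hn]; simp
    have e2 := congrArg π (RingHom.congr_fun hone x)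
    rw [RingHom.comp_apply, RingHom.id_apply] at e2
    have e3 : π.comp (ev (RingHom.id C) (1 : G →* C)) = ev π (1 : G →* D) :=
      MonoidAlgebra.ringHom_ext (fun r ↦ by simp [ev_single]) (fun a ↦ by simp [ev_single])
    rw [← RingHom.comp_apply, e3, e1] at e2
    rw [e1, e2]
  have e : c = j (ε c) + (c - j (ε c)) := (add_sub_cancel _ _).symm
  rw [e, map_add, map_add, map_add, hx _ (sub_mem_ker j ε hε c), hj, ev_single, map_one, _root_.mul_one]

end Groth.Reductive.CentralNhd
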