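import Groth.Agent.Reductive.CentralNhd.Chart
import Groth.Agent.GenSub.Image
import Groth.Agent.GrpschAbsch.IdComp
import Groth.Agent.AlgGrp1.Basic
import Groth.Agent.DescentBase.UnivOpenField
import Groth.Agent.AlgGrp2.Basic
import Mathlib.RingTheory.Filtration

/-!
Over an algebraically closed field, a homomorphism which is central on all infinitesimal
neighbourhoods of the unit of a connected group is central.
-/

set_option autoImplicit false
set_option backward.isDefEq.respectTransparency false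
universe u

open CategoryTheory MonoidalCategory CartesianMonoidalCategory MonObj GrpObj AlgebraicGeometry
open Groth.Reductive.FreeDiag

noncomputable section

namespace Groth.Reductive.CentralNhd

attribute [local instance] algΓ'

variable {T : Scheme.{u}} [IsAffine T] {M : Type} [AddCommGroup M] {G : Over T} [GrpObj G]
  [LocallyOfFiniteType G.hom]
  {WT : Over T} [IsAffine WT.left] (w : WT ⟶ G) (eW : 𝟙_ (Over T) ⟶ WT)
  (v : Red.DS T M ⟶ G) [IsOpenImmersion w.left]
  (s : Γ(T, ⊤)) (hkill : ∀ (n : ℕ) (Z : Over T), IsUnit (Z.hom.appTop.hom s) →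
    ∀ (h : Z ⟶ Red.DS T M) (y : Z ⟶ WT),
      (∀ b ∈ augIdeal eW ^ n, y.left.appTop b = 0) → lift h (y ≫ w) ≫ conjMor v = y ≫ w)

section Fixed

variable {K : Type u} [Field K] (p : Spec (CommRingCat.of K) ⟶ T)

include hkill in
/-- A homomorphism central on the neighbourhoods of the unit fixes a non-empty open of the fibre. -/
theorem exists_open_fixed (hs : IsUnit (p.appTop.hom s)) :
    ∃ (O : Over (Spec (CommRingCat.of K))) (o : O ⟶ Red.bc p G),
      IsOpenImmersion o.left ∧ Nonempty O.left ∧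
      ∀ (W : Over T) (h : W ⟶ Red.DS T M) (y : W ⟶ (Over.map p).obj O),
        lift h (y ≫ qPt p o) ≫ conjMor v = y ≫ qPt p o := by
  classical
  let P : Over T := Over.mk p
  haveI : IsAffine P.left := inferInstanceAs (IsAffine (Spec _))
  let D := Red.DS T M
  let Y := WT ⊗ P
  haveI : IsAffine Y.left := inferInstanceAs (IsAffine (Limits.pullback WT.hom p))
  haveI : LocallyOfFiniteType WT.hom := by
    rw [← Over.w w]
    infer_instance
  haveI : IsNoetherianRing Γ(Y.left, ⊤) := by
    haveI : LocallyOfFiniteType (Limits.pullback.snd WT.hom p) := inferInstance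
    haveI : IsLocallyNoetherian (Limits.pullback WT.hom p) :=
      LocallyOfFiniteType.isLocallyNoetherian (Limits.pullback.snd WT.hom p)
    exact IsLocallyNoetherian.component_noetherian (X := Limits.pullback WT.hom p)
      ⟨⊤, isAffineOpen_top _⟩
  let oY : Y ⟶ G ⊗ P := w ▷ P
  haveI : IsOpenImmersion oY.left := MorphismProperty.of_isPullback
    (Groth.GrpschAbsch.isPullback_whiskerRight w P).flip ‹IsOpenImmersion w.left›
  -- the equalizer
  let cm : D ⊗ Y ⟶ G := lift (fst D Y) (snd D Y ≫ fst WT P ≫ w) ≫ conjMor v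
  let A : D ⊗ Y ⟶ G ⊗ P := lift cm (snd D Y ≫ snd WT P)
  let B : D ⊗ Y ⟶ G ⊗ P := lift (snd D Y ≫ fst WT P ≫ w) (snd D Y ≫ snd WT P)
  let π := (snd G P).left
  haveI : IsSeparated π := Groth.AlgGrp1.isSeparated_grpObj (Red.bc p G)
  haveI : IsClosedImmersion (Limits.pullback.diagonal π) := IsSeparated.isClosedImmersion_diagonal
  have hAB : A.left ≫ π = B.left ≫ π := by
    rw [← Over.comp_left, ← Over.comp_left, lift_snd, lift_snd]
  let pp := Limits.pullback.lift A.left B.left hAB
  let ε := Limits.pullback.fst pp (Limits.pullback.diagonal π)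
  haveI : IsClosedImmersion ε := MorphismProperty.pullback_fst _ _ ‹_›
  haveI : IsAffine (D ⊗ Y).left := by
    haveI : IsAffineHom D.hom := inferInstance
    infer_instance
  let e := RingEquiv.ofBijective _ (κ₀_bijective (T := T) (M := M) (Y := Y))
  have he : ∀ r, κ₀ (e.symm r) = r := e.apply_symm_apply
  let 𝔞 : Ideal Γ(Y.left, ⊤) :=
    Ideal.span {a | ∃ r, ε.appTop.hom r = 0 ∧ ∃ g, a = (e.symm r).coeff g}
  -- the unit section
  let eY : P ⟶ Y := lift (toUnit P ≫ eW) (𝟙 P)
  let I' : Ideal Γ(Y.left, ⊤) := RingHom.ker eY.left.appTop.hom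
  have hI : (augIdeal eW).map (fst WT P).left.appTop.hom ≤ I' := by
    refine Ideal.map_le_iff_le_comap.2 fun b hb ↦ ?_
    show eY.left.appTop.hom ((fst WT P).left.appTop.hom b) = 0
    rw [← RingHom.comp_apply, ← CommRingCat.hom_comp, ← Scheme.Hom.comp_appTop, ← Over.comp_left,
      lift_fst, Over.comp_left, Scheme.Hom.comp_appTop, CommRingCat.hom_comp, RingHom.comp_apply,
      show eW.left.appTop.hom b = 0 from hb, map_zero]
  have ha : ∀ a ∈ 𝔞, ∀ n, a ∈ I' ^ n := by
    intro a ha n
    refine (Ideal.span_le.2 ?_ : 𝔞 ≤ I' ^ n) ha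
    rintro _ ⟨r, hr, g, rfl⟩
    let Yn : Over T := mkT (Y := Y) (Γ(Y.left, ⊤) ⧸ I' ^ n) (Ideal.Quotient.mk (I' ^ n))
    haveI : IsAffine Yn.left := inferInstanceAs (IsAffine (Spec _))
    let jn : Yn ⟶ Y := yT (Y := Y) (Γ(Y.left, ⊤) ⧸ I' ^ n) (Ideal.Quotient.mk (I' ^ n))
    have hjn : ∀ b, jn.left.appTop.hom b = 0 ↔ b ∈ I' ^ n := fun b ↦ by
      rw [show jn.left.appTop.hom b = ΓT (Y := Y) _ (Ideal.Quotient.mk (I' ^ n))
        (Ideal.Quotient.mk (I' ^ n) b) from RingHom.congr_fun (yT_appTop _ _) b]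
      rw [map_eq_zero_iff _ (ΓT_bijective (Y := Y) _ _).1, Ideal.Quotient.eq_zero_iff_mem]
    let c : D ⊗ Yn ⟶ D ⊗ Y := D ◁ jn
    have hc : c ≫ A = c ≫ B := by
      refine CartesianMonoidalCategory.hom_ext _ _ ?_ ?_
      · rw [Category.assoc, Category.assoc, lift_fst, lift_fst, ← Category.assoc c, comp_lift,
          whiskerLeft_fst, whiskerLeft_snd_assoc, ← Category.assoc jn, ← Category.assoc (snd D Yn)]
        refine hkill n _ ?_ _ _ fun b hb ↦ ?_
        · have e1 : (D ⊗ Yn).hom = (c ≫ snd D Y ≫ snd WT P).left ≫ p :=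
            (Over.w (c ≫ snd D Y ≫ snd WT P)).symm
          rw [e1, Scheme.Hom.comp_appTop, CommRingCat.hom_comp, RingHom.comp_apply]
          exact hs.map _
        · rw [Over.comp_left, Over.comp_left, Scheme.Hom.comp_appTop, Scheme.Hom.comp_appTop]
          show (snd D Yn).left.appTop.hom (jn.left.appTop.hom ((fst WT P).left.appTop.hom b)) = 0
          rw [(hjn _).2 ((Ideal.map_pow (fst WT P).left.appTop.hom (augIdeal eW) n ▸
            Ideal.pow_right_mono hI n : Ideal.map _ _ ≤ I' ^ n) (Ideal.mem_map_of_mem _ hb)),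
            map_zero]
      · rw [Category.assoc, Category.assoc, lift_snd, lift_snd]
    have hl : c.left ≫ pp = (c.left ≫ A.left) ≫ Limits.pullback.diagonal π := by
      apply Limits.pullback.hom_ext
      · simp [pp]
      · rw [Category.assoc, Category.assoc, Limits.pullback.lift_snd, Limits.pullback.diagonal_snd,
          Category.comp_id, ← Over.comp_left, ← Over.comp_left, hc]
    have hcr : c.left.appTop.hom r = 0 := by
      rw [show c.left = Limits.pullback.lift c.left _ hl ≫ ε from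
        (Limits.pullback.lift_fst _ _ _).symm, Scheme.Hom.comp_appTop, CommRingCat.hom_comp,
        RingHom.comp_apply, hr, map_zero]
    refine (hjn _).1 (coeff_eq_zero_of_whisker jn _ ?_ g)
    rw [he]
    exact hcr
  -- a function killing the ideal
  obtain ⟨t₀, ht₀⟩ : 𝔞.FG := IsNoetherian.noetherian 𝔞
  have hr : ∀ a : t₀, ∃ r ∈ I', r * (a : Γ(Y.left, ⊤)) = a := fun a ↦ by
    obtain ⟨⟨r, hr⟩, e⟩ := (Ideal.mem_iInf_smul_pow_eq_bot_iff (I := I') (a : Γ(Y.left, ⊤))).1 (by
      rw [Submodule.mem_iInf]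
      intro n
      rw [Ideal.smul_top_eq_map]
      simpa using ha _ (ht₀.le (Submodule.subset_span a.2)) n)
    exact ⟨r, hr, e⟩
  choose rf hrI hrf using hr
  let q : Γ(Y.left, ⊤) := ∏ a : t₀, (1 - rf a)
  have hq1 : eY.left.appTop.hom q = 1 := by
    rw [map_prod]
    refine Finset.prod_eq_one fun a _ ↦ ?_
    rw [map_sub, map_one, show eY.left.appTop.hom (rf a) = 0 from hrI a, sub_zero]
  have hqa : ∀ a ∈ 𝔞, q * a = 0 := by
    intro a ha
    rw [← ht₀] at ha
    induction ha using Submodule.span_induction with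
    | mem a ha =>
      rw [show q = (∏ b ∈ Finset.univ.erase (⟨a, ha⟩ : t₀), (1 - rf b)) * (1 - rf ⟨a, ha⟩) from
        (Finset.prod_erase_mul _ _ (Finset.mem_univ _)).symm, _root_.mul_assoc, sub_mul,
        _root_.one_mul, show rf ⟨a, ha⟩ * a = a from hrf ⟨a, ha⟩, sub_self, MulZeroClass.mul_zero]
    | zero => rw [MulZeroClass.mul_zero]
    | add a b _ _ ha hb => rw [mul_add, ha, hb, add_zero]
    | smul c a _ ha => rw [smul_eq_mul, mul_left_comm, ha, MulZeroClass.mul_zero]
  -- the open
  let U := Y.left.basicOpen q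
  let OT : Over T := Over.mk (U.ι ≫ Y.hom)
  let jq : OT ⟶ Y := Over.homMk U.ι rfl
  haveI : IsOpenImmersion (jq ≫ oY).left := by
    rw [Over.comp_left]
    exact inferInstanceAs (IsOpenImmersion (U.ι ≫ oY.left))
  let O : Over (Spec (CommRingCat.of K)) := Over.mk ((jq ≫ oY).left ≫ (Red.bc p G).hom)
  let o : O ⟶ Red.bc p G := Over.homMk (jq ≫ oY).left rfl
  refine ⟨O, o, ‹IsOpenImmersion (jq ≫ oY).left›, ?_, fun W h y ↦ ?_⟩
  · let pt : (P.left : Scheme.{u}) := IsLocalRing.closedPoint K
    have hpt : pt ∈ eY.left ⁻¹ᵁ U := by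
      rw [Scheme.preimage_basicOpen_top, show eY.left.appTop q = 1 from hq1, Scheme.basicOpen_one]
      trivial
    exact ⟨(⟨eY.left pt, hpt⟩ : (U : Scheme.{u}))⟩
  let y' : W ⟶ Y := Over.homMk (y.left ≫ U.ι) (by
    rw [← Over.w y, Category.assoc]
    congr 1
    show _ = ((jq ≫ oY).left ≫ π) ≫ p
    show U.ι ≫ Y.hom = _
    rw [Category.assoc, show π ≫ p = (G ⊗ P).hom from Over.w (snd G P), Over.comp_left, Category.assoc,
      Over.w oY]
    rfl)
  have hqu : IsUnit (y'.left.appTop.hom q) := by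
    show IsUnit ((y.left ≫ U.ι).appTop.hom q)
    rw [Scheme.Hom.comp_appTop, CommRingCat.hom_comp, RingHom.comp_apply]
    refine IsUnit.map _ ((U : Scheme.{u}).toRingedSpace.isUnit_of_isUnit_germ ⊤ _ fun z _ ↦ ?_)
    refine (Scheme.mem_basicOpen_top _ _ z).mp ?_
    show z ∈ (U : Scheme.{u}).basicOpen (U.ι.appTop q)
    rw [← Scheme.preimage_basicOpen_top]
    exact z.2
  let c : W ⟶ D ⊗ Y := lift h y'
  have hker : ∀ r, ε.appTop r = 0 → c.left.appTop r = 0 := by
    intro r hr
    rw [← he r]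
    show c.left.appTop.hom (κ₀ (e.symm r)) = 0
    rw [← RingHom.comp_apply, ← ptEv_comp, lift_fst, lift_snd, ptEv,
      ← RingHom.id_comp y'.left.appTop.hom, ev_comp_eq, RingHom.comp_apply,
      (mapRingHom_eq_zero_iff y'.left.appTop.hom _).2, map_zero]
    intro g
    refine hqu.mul_right_eq_zero.1 ?_
    rw [← map_mul, hqa _ (Ideal.subset_span ⟨r, hr, g, rfl⟩), map_zero]
  obtain ⟨l, hl⟩ := exists_lift_of_appTop_ker ε c.left hker
  have hc : c ≫ A = c ≫ B := by
    refine Over.OverMorphism.ext ?_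
    have h1 : c.left ≫ pp = l ≫ Limits.pullback.snd pp (Limits.pullback.diagonal π) ≫
        Limits.pullback.diagonal π := by
      rw [← hl, Category.assoc, Limits.pullback.condition]
    have hA := congrArg (· ≫ Limits.pullback.fst π π) h1
    have hB := congrArg (· ≫ Limits.pullback.snd π π) h1
    simp only [Category.assoc, pp, Limits.pullback.lift_fst, Limits.pullback.lift_snd,
      Limits.pullback.diagonal_fst, Limits.pullback.diagonal_snd] at hA hB
    exact hA.trans hB.symm
  have h1 := congrArg (· ≫ fst G P) hc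
  simp only [Category.assoc, lift_fst, A, B, cm, c, comp_lift_assoc, lift_snd_assoc] at h1
  have hy : y ≫ qPt p o = y' ≫ fst WT P ≫ w := by
    rw [← whiskerRight_fst w P]
    refine Over.OverMorphism.ext ?_
    simp [qPt, Over.mapPullbackAdj, o, y', jq, oY]
    have e : (fst G P).left = Limits.pullback.fst G.hom p := rfl
    rw [← e, ← Over.comp_left, whiskerRight_fst]
    rfl
  rw [hy]
  exact h1

end Fixed

variable [IsMonHom v]

include hkill in
/-- Centrality on a connected fibre over an algebraically closed field. -/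
theorem trivOn_point (K : Type u) [Field K] [IsAlgClosed K] (p : Spec (CommRingCat.of K) ⟶ T)
    (hs : IsUnit (p.appTop.hom s)) [ConnectedSpace ↥(Limits.pullback G.hom p)] :
    TrivOn (commMap v) (Over.mk p) := by
  obtain ⟨O, o, ho, hne, hfix⟩ := exists_open_fixed w eW v s hkill p hs
  haveI := ho
  let D := Red.DS T M
  let GK := Red.bc p G
  let vK : Red.bc p D ⟶ GK := (Over.pullback p).map v
  haveI : LocallyOfFiniteType GK.hom := MorphismProperty.pullback_snd _ _ ‹_›
  haveI : ConnectedSpace GK.left := ‹ConnectedSpace ↥(Limits.pullback G.hom p)›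
  have hfixK : ∀ (W : Over (Spec (CommRingCat.of K))) (h : W ⟶ Red.bc p D) (y : W ⟶ O),
      lift h (y ≫ o) ≫ conjMor vK = y ≫ o := by
    intro W h y
    apply qPt_injective p
    have e := hfix _ (qPt p h) ((Over.map p).map y)
    have ec : qPt p (y ≫ o) = (Over.map p).map y ≫ qPt p o :=
      Adjunction.homEquiv_naturality_left_symm _ _ _
    rw [lift_conjMor, ← ec] at e
    rw [lift_conjMor]
    show bcPointEquiv p G W _ = qPt p (y ≫ o)
    rw [map_mul, map_mul, map_inv]
    show qPt p (h ≫ vK) * qPt p (y ≫ o) * (qPt p (h ≫ vK))⁻¹ = _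
    rw [qPt_map]
    exact e
  -- the open generates
  let m : O ⊗ O ⟶ GK := (o ⊗ₘ o) ≫ μ[GK]
  haveI : Flat GK.hom := inferInstance
  haveI : Flat μ[GK].left := Groth.GrpschAbsch.mul_left_mem @Flat GK ‹_›
  haveI : IsOpenImmersion (o ▷ O).left := MorphismProperty.of_isPullback
    (Groth.GrpschAbsch.isPullback_whiskerRight o O).flip ho
  haveI : IsOpenImmersion (GK ◁ o).left := MorphismProperty.of_isPullback
    (Groth.GrpschAbsch.isPullback_whiskerLeft GK o).flip ho
  have hm : m.left = (o ▷ O).left ≫ (GK ◁ o).left ≫ μ[GK].left := by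
    show ((o ⊗ₘ o) ≫ μ[GK]).left = _
    rw [MonoidalCategory.tensorHom_def, Over.comp_left, Over.comp_left, Category.assoc]
  haveI : Flat m.left := by rw [hm]; infer_instance
  haveI : Surjective m.left := by
    haveI := Groth.GrpschAbsch.irreducibleSpace_of_connected_lft GK
    let U : GK.left.Opens := ⟨Set.range o.left, o.left.isOpenEmbedding.isOpen_range⟩
    refine ⟨fun x ↦ ?_⟩
    obtain ⟨q, hq1, hq2, hq⟩ := Groth.GenSub.exists_mul_of_dense_open GK U
      (U.2.dense (Set.range_nonempty o.left)) x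
    obtain ⟨b, hb⟩ := hq2
    obtain ⟨p', hp', -⟩ := Scheme.exists_preimage_of_isPullback
      (Groth.AlgGrp2.isPullback_whiskerLeft_snd GK o) q b hb.symm
    have hpa : (fst GK O).left p' ∈ Set.range o.left := by
      rw [← whiskerLeft_fst GK o, Over.comp_left, Scheme.Hom.comp_apply, hp']
      exact hq1
    obtain ⟨a, ha⟩ := hpa
    obtain ⟨r, hr, -⟩ := Scheme.exists_preimage_of_isPullback
      (Groth.AlgGrp2.isPullback_whiskerRight_fst O o) p' a ha.symm
    refine ⟨r, ?_⟩
    rw [hm, Scheme.Hom.comp_apply, Scheme.Hom.comp_apply, hr, hp', hq]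
  have htriv : TrivOn (commMap vK) (Over.mk (𝟙 (Spec (CommRingCat.of K)))) := by
    rw [trivOn_conj_iff]
    intro W _ h g
    let k := Limits.pullback.fst g.left m.left
    haveI : Flat k := MorphismProperty.pullback_fst _ _ ‹_›
    haveI : Surjective k := MorphismProperty.pullback_fst _ _ ‹_›
    haveI : Epi k := Flat.epi_of_flat_of_surjective k
    let W' : Over (Spec (CommRingCat.of K)) := Over.mk (k ≫ W.hom)
    let a : W' ⟶ W := Over.homMk k rfl
    let b : W' ⟶ O ⊗ O := Over.homMk (Limits.pullback.snd g.left m.left) (by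
      show _ = k ≫ W.hom
      rw [← Over.w g, ← Over.w m, Limits.pullback.condition_assoc])
    have hab : a ≫ g = b ≫ m := Over.OverMorphism.ext Limits.pullback.condition
    haveI : Epi a := (Over.forget _).epi_of_epi_map (inferInstanceAs (Epi k))
    rw [← cancel_epi a, ← Category.assoc, comp_lift, hab]
    have e : b ≫ m = (b ≫ fst O O ≫ o) * (b ≫ snd O O ≫ o) := by
      rw [← MonObj.comp_mul, Hom.mul_def]
      congr 2
      all_goals apply CartesianMonoidalCategory.hom_ext <;> simp
    have e1 := hfixK W' (a ≫ h) (b ≫ fst O O)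
    have e2 := hfixK W' (a ≫ h) (b ≫ snd O O)
    rw [Category.assoc, lift_conjMor] at e1 e2
    rw [lift_conjMor, e]
    conv_rhs => rw [← e1, ← e2]
    group
  have h0 := (trivOn_bc v p (Iso.refl _) (Over.mk (𝟙 (Spec (CommRingCat.of K))))).1 (by
    rw [Iso.refl_hom, Category.id_comp]
    exact htriv)
  exact h0.of_hom (Over.homMk (𝟙 _) (by simp))

end Groth.Reductive.CentralNhd
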