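import Groth.Agent.Reductive.CentralNhd.Affine
import Mathlib.RingTheory.Localization.FractionRing

/-!
Conjugation by a diagonalisable group on the infinitesimal neighbourhoods of the unit section: if it
is trivial over a point, it is trivial on all neighbourhoods over a nearby basic open.
-/

set_option autoImplicit false
set_option backward.isDefEq.respectTransparency false
universe u

open CategoryTheory MonoidalCategory CartesianMonoidalCategory MonObj GrpObj AlgebraicGeometry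
open Groth.Reductive.FreeDiag

noncomputable section

namespace Groth.Reductive.CentralNhd

attribute [local instance] algΓ'

variable {T : Scheme.{u}} [IsAffine T] {M : Type} [AddCommGroup M] {G : Over T} [GrpObj G]
  {WT : Over T} [IsAffine WT.left] (w : WT ⟶ G) (eW : 𝟙_ (Over T) ⟶ WT)

/-- The augmentation ideal of the chart. -/
abbrev augIdeal : Ideal Γ(WT.left, ⊤) := RingHom.ker eW.left.appTop.hom

/-- The `n`-th infinitesimal neighbourhood of the section. -/
abbrev nbhd (n : ℕ) : Over T :=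
  mkT (Y := WT) (Γ(WT.left, ⊤) ⧸ augIdeal eW ^ n) (Ideal.Quotient.mk (augIdeal eW ^ n))

/-- The inclusion of a neighbourhood. -/
abbrev nbhdι (n : ℕ) : nbhd eW n ⟶ WT :=
  yT (Y := WT) (Γ(WT.left, ⊤) ⧸ augIdeal eW ^ n) (Ideal.Quotient.mk (augIdeal eW ^ n))

instance (n : ℕ) : IsAffine (nbhd eW n).left := inferInstanceAs (IsAffine (Spec _))

lemma nbhdι_appTop_eq_zero (n : ℕ) (b : Γ(WT.left, ⊤)) :
    (nbhdι eW n).left.appTop b = 0 ↔ b ∈ augIdeal eW ^ n := by
  rw [show (nbhdι eW n).left.appTop b = ΓT (Y := WT) _ (Ideal.Quotient.mk (augIdeal eW ^ n))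
    (Ideal.Quotient.mk (augIdeal eW ^ n) b) from RingHom.congr_fun (yT_appTop _ _) b]
  rw [map_eq_zero_iff _ (ΓT_bijective (Y := WT) _ _).1, Ideal.Quotient.eq_zero_iff_mem]

lemma nbhdι_appTop_surjective (n : ℕ) : Function.Surjective (nbhdι eW n).left.appTop.hom := by
  rw [yT_appTop]
  exact (ΓT_bijective (Y := WT) _ _).2.comp Ideal.Quotient.mk_surjective

instance (n : ℕ) : IsClosedImmersion (nbhdι eW n).left := by
  haveI : IsClosedImmersion (Spec.map (CommRingCat.ofHom (Ideal.Quotient.mk (augIdeal eW ^ n)))) :=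
    IsClosedImmersion.spec_of_surjective _ Ideal.Quotient.mk_surjective
  exact inferInstanceAs (IsClosedImmersion (Spec.map _ ≫ WT.left.isoSpec.inv))

instance (n : ℕ) : Mono (nbhdι eW n) := Over.mono_of_mono_left _

lemma exists_factor_nbhd {Z : Over T} (y : Z ⟶ WT) (n : ℕ)
    (h : ∀ b ∈ augIdeal eW ^ n, y.left.appTop b = 0) : ∃ y', y' ≫ nbhdι eW n = y := by
  obtain ⟨l, hl⟩ := exists_lift_of_appTop_ker (nbhdι eW n).left y.left
    fun r hr ↦ h r ((nbhdι_appTop_eq_zero eW n r).1 hr)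
  exact ⟨Over.homMk l (by rw [← Over.w (nbhdι eW n), ← Category.assoc, hl]; exact Over.w y),
    Over.OverMorphism.ext hl⟩

omit [GrpObj G] in
/-- A point of the chart killing the augmentation ideal is the section. -/
lemma eq_section_of_kills {Z : Over T} (y : Z ⟶ WT) (h : ∀ b ∈ augIdeal eW, y.left.appTop b = 0) :
    y = toUnit Z ≫ eW := by
  refine Over.OverMorphism.ext (ext_of_isAffine (CommRingCat.hom_ext (RingHom.ext fun b ↦ ?_)))
  have hw : ∀ {A : Over T} (q : A ⟶ WT) (r : Γ(T, ⊤)),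
      q.left.appTop (WT.hom.appTop r) = A.hom.appTop r := fun q r ↦ by
    rw [← CommRingCat.comp_apply, ← Scheme.Hom.comp_appTop, Over.w q]
  have hb : b - WT.hom.appTop.hom (eW.left.appTop.hom b) ∈ augIdeal eW := by
    rw [RingHom.mem_ker, map_sub, sub_eq_zero]
    have e := hw eW (eW.left.appTop.hom b)
    refine Eq.trans ?_ e.symm
    show _ = (𝟙 T : T ⟶ T).appTop.hom _
    rw [Scheme.Hom.id_appTop]
    rfl
  have e : y.left.appTop.hom b = y.left.appTop.hom (WT.hom.appTop.hom (eW.left.appTop.hom b)) := by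
    rw [← sub_eq_zero, ← map_sub]
    exact h _ hb
  refine e.trans ((hw y _).trans ?_)
  rw [Over.comp_left, Scheme.Hom.comp_appTop]
  rfl

variable (v : Red.DS T M ⟶ G) [IsMonHom v] [IsOpenImmersion w.left] (heW : eW ≫ w = η[G])

include heW in
omit [IsMonHom v] in
/-- Conjugation preserves the infinitesimal neighbourhoods of the unit. -/
theorem exists_nbhd_act (n : ℕ) :
    ∃ act : Red.DS T M ⊗ nbhd eW (n + 1) ⟶ nbhd eW (n + 1),
      act ≫ nbhdι eW (n + 1) ≫ w =
        (Red.DS T M ◁ (nbhdι eW (n + 1) ≫ w)) ≫ conjMor v := by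
  set N := nbhd eW (n + 1)
  set jN := nbhdι eW (n + 1)
  let m := (Red.DS T M ◁ (jN ≫ w)) ≫ conjMor v
  have hfix : ∀ (Z : Over T) (h : Z ⟶ Red.DS T M), lift h (toUnit Z ≫ eW ≫ w) ≫ conjMor v =
      toUnit Z ≫ eW ≫ w := by
    intro Z h
    rw [lift_conjMor, heW, ← Hom.one_def, _root_.mul_one, mul_inv_cancel]
  have hrange : Set.range m.left ⊆ Set.range w.left := by
    rintro _ ⟨z, rfl⟩
    let P := (Red.DS T M ⊗ N).left
    let Z : Over T := Over.mk (P.fromSpecResidueField z ≫ (Red.DS T M ⊗ N).hom)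
    let p : Z ⟶ Red.DS T M ⊗ N := Over.homMk (P.fromSpecResidueField z) rfl
    let y := p ≫ snd _ _ ≫ jN
    have hy : y = toUnit Z ≫ eW := by
      refine eq_section_of_kills eW y fun b hb ↦ ?_
      haveI : _root_.IsReduced Γ(Z.left, ⊤) :=
        IsReduced.component_reduced (X := Spec (P.residueField z)) ⊤
      have h0 : y.left.appTop.hom (b ^ (n + 1)) = 0 := by
        show (p ≫ snd _ _ ≫ jN).left.appTop.hom _ = 0
        rw [← Category.assoc, Over.comp_left, Scheme.Hom.comp_appTop, CommRingCat.hom_comp,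
          RingHom.comp_apply]
        show ((p ≫ snd _ _).left.appTop.hom) (jN.left.appTop (b ^ (n + 1))) = 0
        rw [(nbhdι_appTop_eq_zero eW _ _).2 (Ideal.pow_mem_pow hb _), map_zero]
      rw [map_pow] at h0
      exact eq_zero_of_pow_eq_zero h0
    have e : p ≫ m = toUnit Z ≫ eW ≫ w := by
      show p ≫ (Red.DS T M ◁ (jN ≫ w)) ≫ conjMor v = _
      rw [← lift_comp_fst_snd p, lift_whiskerLeft_assoc]
      have : (p ≫ snd _ _) ≫ jN ≫ w = toUnit Z ≫ eW ≫ w := by
        rw [← Category.assoc, Category.assoc p, show p ≫ snd _ _ ≫ jN = toUnit Z ≫ eW from hy,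
          Category.assoc]
      rw [this, hfix]
    let q : (Spec (P.residueField z) : Scheme.{u}) := default
    refine ⟨(toUnit Z ≫ eW).left q, ?_⟩
    have e' := congrArg (fun f : Z ⟶ G ↦ f.left q) e
    rw [← Category.assoc] at e'
    simp only [Over.comp_left, Scheme.Hom.comp_apply] at e'
    rw [show p.left q = z from Scheme.fromSpecResidueField_apply z q] at e'
    exact e'.symm
  let mW : Red.DS T M ⊗ N ⟶ WT := Over.homMk (IsOpenImmersion.lift w.left m.left hrange) (by
    rw [← Over.w w, IsOpenImmersion.lift_fac_assoc]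
    exact Over.w m)
  have hmW : mW ≫ w = m := Over.OverMorphism.ext (IsOpenImmersion.lift_fac _ _ _)
  haveI : Mono w := Over.mono_of_mono_left w
  obtain ⟨en, hen⟩ := exists_factor_nbhd eW eW (n + 1)
    fun b hb ↦ Ideal.pow_le_self n.succ_ne_zero hb
  let e := RingEquiv.ofBijective _ (κ₀_bijective (T := T) (M := M) (Y := N))
  let Φ : Γ(WT.left, ⊤) →+* MonoidAlgebra Γ(N.left, ⊤) (Multiplicative M) :=
    e.symm.toRingHom.comp mW.left.appTop.hom
  have hΦ : ∀ b, κ₀ (Φ b) = mW.left.appTop b := fun b ↦ e.apply_symm_apply _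
  let J := (augIdeal eW).map jN.left.appTop.hom
  have hJ : ∀ c, en.left.appTop c = 0 → c ∈ J := by
    intro c hc
    obtain ⟨b, rfl⟩ := nbhdι_appTop_surjective eW (n + 1) c
    refine Ideal.mem_map_of_mem _ ?_
    show eW.left.appTop.hom b = 0
    rw [← hen, Over.comp_left, Scheme.Hom.comp_appTop]
    exact hc
  have hΦI : augIdeal eW ≤ (J.map (MonoidAlgebra.singleOneRingHom :
      _ →+* MonoidAlgebra Γ(N.left, ⊤) (Multiplicative M))).comap Φ := by
    intro b hb
    refine mem_map_singleOne J _ fun g ↦ hJ _ (coeff_eq_zero_of_whisker en _ ?_ g)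
    rw [hΦ]
    have e1 : (Red.DS T M ◁ en) ≫ mW = toUnit _ ≫ eW := by
      rw [← cancel_mono w, Category.assoc, hmW, Category.assoc,
        show (Red.DS T M ◁ en) ≫ m = lift (fst _ (𝟙_ _)) (toUnit _ ≫ eW ≫ w) ≫ conjMor v by
          show (Red.DS T M ◁ en) ≫ (Red.DS T M ◁ (jN ≫ w)) ≫ conjMor v = _
          rw [← Category.assoc, ← MonoidalCategory.whiskerLeft_comp, reassoc_of% hen]
          congr 1
          apply CartesianMonoidalCategory.hom_ext
          · simp
          · rw [whiskerLeft_snd, lift_snd, toUnit_unique (snd _ (𝟙_ (Over T))) (toUnit _)]]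
      exact hfix _ _
    show ((Red.DS T M ◁ en).left.appTop.hom) (mW.left.appTop.hom b) = 0
    rw [← RingHom.comp_apply, ← CommRingCat.hom_comp, ← Scheme.Hom.comp_appTop, ← Over.comp_left, e1,
      Over.comp_left, Scheme.Hom.comp_appTop, CommRingCat.hom_comp, RingHom.comp_apply,
      show eW.left.appTop.hom b = 0 from hb, map_zero]
  have hkill : ∀ b ∈ augIdeal eW ^ (n + 1), mW.left.appTop b = 0 := by
    intro b hb
    have h1 : Φ b ∈ (J.map (MonoidAlgebra.singleOneRingHom :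
        _ →+* MonoidAlgebra Γ(N.left, ⊤) (Multiplicative M))) ^ (n + 1) := by
      have := Ideal.pow_right_mono (Ideal.map_le_iff_le_comap.2 hΦI) (n + 1)
      rw [← Ideal.map_pow] at this
      exact this (Ideal.mem_map_of_mem Φ hb)
    have h2 : J ^ (n + 1) = ⊥ := by
      rw [← Ideal.map_pow, eq_bot_iff, Ideal.map_le_iff_le_comap]
      exact fun b hb ↦ (nbhdι_appTop_eq_zero eW _ _).2 hb
    rw [← Ideal.map_pow, h2, Ideal.map_bot, Ideal.mem_bot] at h1
    rw [← hΦ, h1, map_zero]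
  obtain ⟨act, hact⟩ := exists_factor_nbhd eW mW (n + 1) hkill
  exact ⟨act, by rw [← Category.assoc, hact, hmW]⟩

include heW in
/-- The coaction on a neighbourhood of the unit. -/
theorem exists_nbhd_coaction (n : ℕ) :
    ∃ (act : Red.DS T M ⊗ nbhd eW (n + 1) ⟶ nbhd eW (n + 1)) (en : 𝟙_ (Over T) ⟶ nbhd eW (n + 1))
      (ψ : Γ((nbhd eW (n + 1)).left, ⊤) →+*
        MonoidAlgebra Γ((nbhd eW (n + 1)).left, ⊤) (Multiplicative M)),
      act ≫ nbhdι eW (n + 1) ≫ w = (Red.DS T M ◁ (nbhdι eW (n + 1) ≫ w)) ≫ conjMor v ∧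
      en ≫ nbhdι eW (n + 1) = eW ∧
      RingHom.ker en.left.appTop.hom = (augIdeal eW).map (nbhdι eW (n + 1)).left.appTop.hom ∧
      (∀ r, en.left.appTop.hom ((nbhd eW (n + 1)).hom.appTop.hom r) = r) ∧
      (∀ (C : Type u) [CommRing C] (jc : Γ((nbhd eW (n + 1)).left, ⊤) →+* C)
        (χ χ' : Multiplicative M →* C) b,
        ev ((ev jc χ).comp ψ) χ' (ψ b) = ev jc (χ' * χ) (ψ b)) ∧
      (ev (RingHom.id _) 1).comp ψ = RingHom.id _ ∧
      (∀ r, ψ ((nbhd eW (n + 1)).hom.appTop.hom r) =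
        MonoidAlgebra.single 1 ((nbhd eW (n + 1)).hom.appTop.hom r)) ∧
      (∀ x ∈ RingHom.ker en.left.appTop.hom, ∀ g, (ψ x).coeff g ∈ RingHom.ker en.left.appTop.hom) ∧
      (∀ (Z : Over T) (h : Z ⟶ Red.DS T M) (y : Z ⟶ nbhd eW (n + 1)),
        (lift h y ≫ act).left.appTop.hom = (ptEv h y).comp ψ) := by
  set N := nbhd eW (n + 1)
  set jN := nbhdι eW (n + 1)
  obtain ⟨act, hact⟩ : ∃ act : Red.DS T M ⊗ N ⟶ N,
      act ≫ jN ≫ w = (Red.DS T M ◁ (jN ≫ w)) ≫ conjMor v := exists_nbhd_act w eW v heW n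
  obtain ⟨en, hen⟩ := exists_factor_nbhd eW eW (n + 1)
    fun b hb ↦ Ideal.pow_le_self n.succ_ne_zero hb
  haveI : Mono w := Over.mono_of_mono_left w
  have hpt : ∀ (Z : Over T) (h : Z ⟶ Red.DS T M) (y : Z ⟶ N),
      (lift h y ≫ act) ≫ jN ≫ w = lift h (y ≫ jN ≫ w) ≫ (conjAct v).act := fun Z h y ↦ by
    rw [Category.assoc, hact, lift_whiskerLeft_assoc]
    rfl
  obtain ⟨ψ, hco, hone, hj, hψ⟩ := exists_coaction act
    (fun Z h h' y ↦ by rw [← cancel_mono (jN ≫ w), hpt, hpt, hpt, act_assoc])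
    (fun Z y ↦ by rw [← cancel_mono (jN ≫ w), hpt, act_one'])
  have hker : RingHom.ker en.left.appTop.hom = (augIdeal eW).map jN.left.appTop.hom := by
    refine le_antisymm (fun c hc ↦ ?_) (Ideal.map_le_iff_le_comap.2 fun b hb ↦ ?_)
    · obtain ⟨b, rfl⟩ := nbhdι_appTop_surjective eW (n + 1) c
      refine Ideal.mem_map_of_mem _ ?_
      show eW.left.appTop.hom b = 0
      rw [← hen, Over.comp_left, Scheme.Hom.comp_appTop]
      exact hc
    · show en.left.appTop.hom (jN.left.appTop.hom b) = 0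
      rw [← RingHom.comp_apply, ← CommRingCat.hom_comp, ← Scheme.Hom.comp_appTop, ← Over.comp_left, hen]
      exact hb
  refine ⟨act, en, ψ, hact, hen, hker, fun r ↦ ?_, hco, hone, hj, fun x hx g ↦ ?_, hψ⟩
  · rw [← RingHom.comp_apply, ← CommRingCat.hom_comp, ← Scheme.Hom.comp_appTop, Over.w en]
    show (𝟙 T : T ⟶ T).appTop.hom r = r
    rw [Scheme.Hom.id_appTop]
    rfl
  · refine coeff_eq_zero_of_whisker en _ ?_ g
    have h1 := RingHom.congr_fun (hψ _ (fst (Red.DS T M) N) (snd (Red.DS T M) N)) x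
    rw [lift_fst_snd, Category.id_comp] at h1
    have e1 : (Red.DS T M ◁ en) ≫ act = toUnit _ ≫ en := by
      rw [show Red.DS T M ◁ en = lift (fst _ (𝟙_ _)) (snd _ _ ≫ en) from by
        apply CartesianMonoidalCategory.hom_ext <;> simp]
      rw [← cancel_mono (jN ≫ w), hpt, Category.assoc, Category.assoc, reassoc_of% hen,
        toUnit_unique (snd (Red.DS T M) (𝟙_ _)) (toUnit _)]
      show lift _ _ ≫ conjMor v = _
      rw [lift_conjMor, heW, ← Hom.one_def, _root_.mul_one, mul_inv_cancel]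
    rw [show κ₀ (ψ x) = act.left.appTop.hom x from h1.symm]
    show ((Red.DS T M ◁ en).left.appTop.hom) (act.left.appTop.hom x) = 0
    rw [← RingHom.comp_apply, ← CommRingCat.hom_comp, ← Scheme.Hom.comp_appTop, ← Over.comp_left, e1,
      Over.comp_left, Scheme.Hom.comp_appTop, CommRingCat.hom_comp, RingHom.comp_apply,
      show en.left.appTop.hom x = 0 from hx, map_zero]

end Groth.Reductive.CentralNhd
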